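import Groth.Prelude.Def_ega3
import Groth.Agent.Lib.CMReg18.PullVb
import Groth.Agent.Lib.CMReg18.Linear
import Groth.Agent.Lib.CMReg18.UnifVan
import Groth.Agent.Lib.NumPoly18.HodgeIndex
import Groth.Agent.Lib.TensorMod.PullSupport
import Groth.Agent.Lib.SyzMult.Basic
import Groth.Agent.Lib.CBC10.CorepHom

/-! Vanishing of the higher cohomology of the fibres along exact sequences of bundles. -/

set_option autoImplicit false
set_option linter.style.haveILetI false
set_option backward.isDefEq.respectTransparency false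
set_option backward.isDefEq.respectTransparency.types false
set_option maxHeartbeats 800000
set_option synthInstance.maxHeartbeats 100000

universe u

open CategoryTheory CategoryTheory.Limits AlgebraicGeometry TopologicalSpace Opposite TensorProduct

noncomputable section

namespace Groth.Agent.IntShRes5

open Groth.Agent Groth.Agent.M1 Groth.Agent.M2 Groth.Agent.CurveCoh17

variable {X Y : Scheme.{u}} (π : X ⟶ Y)

/-- The cohomology of `F ⊗ E` on the fibres vanishes above degree `j`. -/
def Van (F : X.Modules) (j : ℕ) (E : X.Modules) : Prop :=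
  ∀ (s : Y) (p : ℕ), j < p → Subsingleton (CohIII.fiberH π (CohB1.tensorMod F E) s p)

variable {π}

theorem Van.of_iso {F : X.Modules} {j : ℕ} {E E' : X.Modules} (h : Van π F j E) (e : E ≅ E') :
    Van π F j E' := fun s p hp => by
  letI : (π.fiber s).Over (Spec (CommRingCat.of (Y.residueField s))) := ⟨π.fiberToSpecResidueField s⟩
  exact CMReg18.van_iso (Y.residueField s)
    ((Scheme.Modules.pullback (π.fiberι s)).mapIso (M2.tensorIso (Iso.refl F) e)) (h s p hp)

/-- A short exact sequence whose quotient is a bundle stays exact after tensoring. -/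
theorem shortExact_tensorR_vb {S : ShortComplex X.Modules} (hS : S.ShortExact)
    (h3 : FlatMod.IsFinLocFree S.X₃) (E : X.Modules) : (S.map (tensorR E)).ShortExact := by
  haveI := hS.mono_f
  haveI := hS.epi_g
  have hinj : ∀ x, Function.Injective (stalkLin S.f x) := (mono_iff_stalk S.f).1 hS.mono_f
  have hsurj : ∀ x, Function.Surjective (stalkLin S.g x) := (epi_iff_stalk S.g).1 hS.epi_g
  have hex : ∀ x, Function.Exact (stalkLin S.f x) (stalkLin S.g x) := fun x c => by
    refine ⟨fun hc => (exact_iff_stalk_eq_zero S).1 hS.exact x c hc, ?_⟩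
    rintro ⟨a, rfl⟩
    show ((stalkAb x).map S.f ≫ (stalkAb x).map S.g) a = 0
    rw [← Functor.map_comp, S.zero, Functor.map_zero]
    rfl
  refine { exact := ?_, mono_f := ?_, epi_g := ?_ }
  · rw [exact_iff_stalk_eq_zero]
    intro x b hb
    have hex' := rTensor_exact (E.presheaf.stalk x) (hex x) (hsurj x)
    have h0 : LinearMap.rTensor (E.presheaf.stalk x) (stalkLin S.g x) (stalkEquiv S.X₂ E x b) = 0 := by
      rw [← stalkEquiv_natural]
      exact (congrArg _ hb).trans (map_zero _)
    obtain ⟨c, hc⟩ := (hex' _).1 h0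
    obtain ⟨a, rfl⟩ := (stalkEquiv S.X₁ E x).surjective c
    refine ⟨a, (stalkEquiv S.X₂ E x).injective ?_⟩
    rw [← hc]
    exact stalkEquiv_natural S.f E x a
  · refine (mono_iff_stalk _).2 fun x a b h => (stalkEquiv S.X₁ E x).injective ?_
    obtain ⟨U, n, hxU, ⟨e⟩⟩ := h3 x
    haveI := M1.free_stalk_of_freeMod (CohFound.isCoh_of_isFinLocFree h3).1 e hxU
    obtain ⟨sec, hsec⟩ := Module.projective_lifting_property (stalkLin S.g x) LinearMap.id (hsurj x)
    obtain ⟨l, hl⟩ := (((hex x).split_tfae (hinj x) (hsurj x)).out 0 1).1 (show ∃ l, stalkLin S.g x ∘ₗ l = LinearMap.id from ⟨sec, hsec⟩)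
    have key : Function.Injective (LinearMap.rTensor (E.presheaf.stalk x) (stalkLin S.f x)) :=
      Function.LeftInverse.injective (g := LinearMap.rTensor (E.presheaf.stalk x) l) fun z => by
        rw [← LinearMap.comp_apply, ← LinearMap.rTensor_comp, hl, LinearMap.rTensor_id]
        rfl
    apply key
    rw [← stalkEquiv_natural, ← stalkEquiv_natural]
    exact congrArg _ h
  · refine (epi_iff_stalk _).2 fun x b => ?_
    obtain ⟨c, hc⟩ := LinearMap.rTensor_surjective (E.presheaf.stalk x) (hsurj x) (stalkEquiv S.X₃ E x b)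
    obtain ⟨a, rfl⟩ := (stalkEquiv S.X₂ E x).surjective c
    refine ⟨a, (stalkEquiv S.X₃ E x).injective ?_⟩
    rw [← hc]
    exact stalkEquiv_natural S.g E x a

/-- On a fibre, the tensor product by the restriction of `F`. -/
def fibIso (F E : X.Modules) (s : Y) :
    CohB1.tensorMod ((Scheme.Modules.pullback (π.fiberι s)).obj E) ((Scheme.Modules.pullback (π.fiberι s)).obj F) ≅
      CohIII.fiberMod π (CohB1.tensorMod F E) s :=
  (M2.pullTensorIso (π.fiberι s) E F).symm ≪≫
    (Scheme.Modules.pullback (π.fiberι s)).mapIso (M2.tensorComm E F)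

/-- Vanishing descends to the quotient, one degree down. -/
theorem Van.quot {F : X.Modules} {j : ℕ} {S : ShortComplex X.Modules} (hS : S.ShortExact)
    (h₃ : FlatMod.IsFinLocFree S.X₃) (h1 : Van π F (j + 1) S.X₁) (h2 : Van π F 0 S.X₂) :
    Van π F j S.X₃ := fun s p hp => by
  letI : (π.fiber s).Over (Spec (CommRingCat.of (Y.residueField s))) := ⟨π.fiberToSpecResidueField s⟩
  have hp' := CMReg18.shortExact_pullback (π.fiberι s) S hS (KFlat.Sch.isFlat_of_isFinLocFree h₃)
  have ht := shortExact_tensorR_vb hp' (M2.isFinLocFree_pullback (π.fiberι s) h₃)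
    ((Scheme.Modules.pullback (π.fiberι s)).obj F)
  refine CMReg18.van_iso (Y.residueField s) (fibIso F S.X₃ s) (CMReg18.van₃ (Y.residueField s) ht ?_ ?_)
  · exact CMReg18.van_iso (Y.residueField s) (fibIso F S.X₂ s).symm (h2 s p (by omega))
  · exact CMReg18.van_iso (Y.residueField s) (fibIso F S.X₁ s).symm (h1 s (p + 1) (by omega))

/-- Above the dimension of the fibres of the support everything vanishes. -/
theorem van_of_support [IsNoetherian Y] [IsProper π] {F : X.Modules} (hF : Coh.IsCoh F) {d : ℕ}
    (hd : ∀ y : Y, topologicalKrullDim ↥{x : X | x ∈ CohB1.support F ∧ π.base x = y} ≤ d)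
    {E : X.Modules} (hE : FlatMod.IsFinLocFree E) : Van π F d E := fun s p hp => by
  letI : (π.fiber s).Over (Spec (CommRingCat.of (Y.residueField s))) := ⟨π.fiberToSpecResidueField s⟩
  haveI : IsProper ((π.fiber s) ↘ Spec (CommRingCat.of (Y.residueField s))) :=
    MorphismProperty.of_isPullback (P := @IsProper) (IsPullback.of_hasPullback π (Y.fromSpecResidueField s)) inferInstance
  haveI : IsLocallyNoetherian X := LocallyOfFiniteType.isLocallyNoetherian π
  have hFE : Coh.IsCoh (CohB1.tensorMod F E) := CohFound.isCoh_tensor hF (CohFound.isCoh_of_isFinLocFree hE)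
  have hc : Coh.IsCoh (CohIII.fiberMod π (CohB1.tensorMod F E) s) := M1.isCoh_pullback _ hFE
  refine NumPoly18.subsingleton_HH_of_support (k := Y.residueField s) hc ?_ hp
  rw [show CohIII.fiberMod π (CohB1.tensorMod F E) s =
    (Scheme.Modules.pullback (π.fiberι s)).obj (CohB1.tensorMod F E) from rfl]
  rw [M2.support_pullback (π.fiberι s) hFE.1 hFE.2]
  let T := {x : X | x ∈ CohB1.support F ∧ π.base x = s}
  let g : ↥(π.fiberι s ⁻¹' CohB1.support (CohB1.tensorMod F E)) → ↥T := fun z =>
    ⟨π.fiberι s z.1, Snapper.support_tensor_subset F E z.2, ((π.fiberHomeo s) z.1).2⟩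
  have hg : Topology.IsInducing g := by
    refine Topology.IsInducing.codRestrict ?_ fun z => (g z).2
    exact (π.fiberι s).isEmbedding.isInducing.comp Topology.IsInducing.subtypeVal
  exact (hg.topologicalKrullDim_le).trans (hd s)

end Groth.Agent.IntShRes5
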