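import Groth.Prelude.Def_RelProj
import Groth.Agent.Lib.IntShRes5.Step
import Groth.Agent.Lib.PBK5.Segre
import Groth.Agent.Lib.CMReg18.FlatTwistGen
import Groth.Agent.Lib.CMReg18.FlatCrit
import Groth.Agent.Lib.VeryAmple11.TwistGen
import Groth.Agent.Lib.AmpleFib.IndCons
import Groth.Agent.Lib.EnriquesSeveri11.DualSeq
import Groth.Agent.Lib.DPerf.RelAmp
import Groth.Agent.Lib.DPerf.Top
import Groth.Agent.Lib.LimH13.ArrowModel
import Groth.Agent.S1108

/-! Coresolutions of bundles by bundles with acyclic twists. -/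

set_option autoImplicit false
set_option linter.style.haveILetI false
set_option backward.isDefEq.respectTransparency false
set_option backward.isDefEq.respectTransparency.types false
set_option maxHeartbeats 800000
set_option synthInstance.maxHeartbeats 100000

universe u

open CategoryTheory CategoryTheory.Limits AlgebraicGeometry TopologicalSpace Opposite

noncomputable section

namespace Groth.Agent.IntShRes5

open Groth.Agent

variable {X Y : Scheme.{u}} {π : X ⟶ Y}

/-- A projective morphism has a relatively ample module. -/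
theorem exists_relAmple (hπ : RelProj.IsProjective π) : ∃ L : X.Modules, RelAmple.IsRelAmple π L := by
  obtain ⟨𝒮, P, p, chart, e, hgen, hft, hP, rfl⟩ := hπ
  haveI : IsProper p := QuotProj11.isProper_of_isRelProj hP hgen hft
  obtain ⟨O1, lam1, hL1⟩ := RelProj11.exists_isRelTwist (n := (1 : ℤ)) hP
  exact ⟨_, AmpleFib.isRelAmple_of_iso_comp e rfl (VA11.isRelAmple_relTwist_one hP hgen hft hL1)⟩

/-- A finite locally free module on a one point scheme is free. -/
theorem exists_iso_freeMod_of_point {Z : Scheme.{u}} [Subsingleton Z] [Nonempty Z] {G : Z.Modules}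
    (hG : FlatMod.IsFinLocFree G) : ∃ r, Nonempty (G ≅ FlatMod.freeMod Z r) := by
  obtain ⟨U, r, hx, ⟨i⟩⟩ := hG (Classical.arbitrary Z)
  obtain rfl : U = ⊤ := eq_top_iff.2 fun y _ => (Subsingleton.elim y _) ▸ hx
  refine ⟨r, ⟨((Scheme.Modules.pullbackId _).app G).symm ≪≫
    ((Scheme.Modules.pullbackCongr (show (Scheme.topIso Z).inv ≫ (⊤ : Z.Opens).ι = 𝟙 Z from
      (Scheme.topIso Z).inv_hom_id)).app G).symm ≪≫
    ((Scheme.Modules.pullbackComp (Scheme.topIso Z).inv (⊤ : Z.Opens).ι).app G).symm ≪≫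
    (Scheme.Modules.pullback (Scheme.topIso Z).inv).mapIso
      (((Scheme.Modules.restrictFunctorIsoPullback _).app G).symm ≪≫ i) ≪≫
    M2.freeModPullbackIso _ r⟩⟩

/-- Twisting by a bundle from the base keeps the vanishing on the fibres. -/
theorem Van.tensor_pullback {F P : X.Modules} (h : Van π F 0 P) {G : Y.Modules}
    (hG : FlatMod.IsFinLocFree G) :
    Van π F 0 (CohB1.tensorMod ((Scheme.Modules.pullback π).obj G) P) := fun s p hp => by
  letI : (π.fiber s).Over (Spec (CommRingCat.of (Y.residueField s))) := ⟨π.fiberToSpecResidueField s⟩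
  haveI : Subsingleton (Spec (Y.residueField s)) := inferInstanceAs (Subsingleton (PrimeSpectrum _))
  haveI : Nonempty (Spec (Y.residueField s)) := inferInstanceAs (Nonempty (PrimeSpectrum _))
  obtain ⟨r, ⟨i⟩⟩ := exists_iso_freeMod_of_point (M2.isFinLocFree_pullback (Y.fromSpecResidueField s) hG)
  let a : (Scheme.Modules.pullback (π.fiberι s)).obj ((Scheme.Modules.pullback π).obj G) ≅
      FlatMod.freeMod (π.fiber s) r :=
    (Scheme.Modules.pullbackComp (π.fiberι s) π).app G ≪≫
      (Scheme.Modules.pullbackCongr (π.fiber_fac s)).app G ≪≫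
      ((Scheme.Modules.pullbackComp (π.fiberToSpecResidueField s) (Y.fromSpecResidueField s)).app G).symm ≪≫
      (Scheme.Modules.pullback (π.fiberToSpecResidueField s)).mapIso i ≪≫ M2.freeModPullbackIso _ r
  let ι := Scheme.Modules.pullback (π.fiberι s)
  let b : CohIII.fiberMod π (CohB1.tensorMod F (CohB1.tensorMod ((Scheme.Modules.pullback π).obj G) P)) s ≅
      ∐ fun _ : Fin r => CohIII.fiberMod π (CohB1.tensorMod F P) s :=
    ι.mapIso ((M2.tensorAssoc F _ P).symm ≪≫ M2.tensorIso (M2.tensorComm F _) (Iso.refl P) ≪≫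
      M2.tensorAssoc _ F P) ≪≫ M2.pullTensorIso (π.fiberι s) _ _ ≪≫
      M2.tensorIso a (Iso.refl _) ≪≫ M2.freeModTensorIso _ r _
  exact CMReg18.van_iso (Y.residueField s) b.symm (CMReg18.van_sigma (Y.residueField s) _ fun _ => h s p hp)

section

variable [IsNoetherian X] [IsNoetherian Y] [IsProper π]

/-- Large twists have acyclic fibres. -/
theorem exists_van_pow {F L : X.Modules} (hF : Coh.IsCoh F) (hFf : FlatMod.IsFlatOver π F)
    (hL : RelAmple.IsRelAmple π L) : ∃ N : ℕ, ∀ n, N ≤ n → Van π F 0 (CohB1.tensorPow L n) := by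
  classical
  haveI := LimH13.locallyOfFinitePresentation_of_noetherian π
  choose V N hsV hV using CMReg18.exists_nhd_vanishing_pow ((M1.isCoh_iff_isFP F).1 hF) hFf hL
  obtain ⟨t, ht⟩ := isCompact_univ.elim_finite_subcover (fun s => (V s : Set Y)) (fun s => (V s).isOpen)
    fun s _ => Set.mem_iUnion.2 ⟨s, hsV s⟩
  refine ⟨t.sup N, fun n hn y p hp => ?_⟩
  obtain ⟨s, hst, hy⟩ := Set.mem_iUnion₂.1 (ht (Set.mem_univ y))
  exact hV s y hy n (le_trans (Finset.le_sup hst) hn) p hp

/-- A bundle with acyclic twist maps onto a twist of any bundle. -/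
theorem exists_epi_good {F : X.Modules} (hF : Coh.IsCoh F) (hFf : FlatMod.IsFlatOver π F)
    {L : X.Modules} (hL : RelAmple.IsRelAmple π L)
    (hAB : Flat π ∨ ∃ H : Y.Modules, CohB1.IsAmple H) {M : X.Modules} (hM : FlatMod.IsFinLocFree M) :
    ∃ (G : Y.Modules) (P D : X.Modules) (u : CohB1.tensorMod ((Scheme.Modules.pullback π).obj G) D ⟶ M),
      FlatMod.IsFinLocFree G ∧ Epi u ∧ PicF.IsInvertible P ∧ PicF.IsInvertible D ∧
      Nonempty (CohB1.tensorMod P D ≅ Coh.structureModule X) ∧ Van π F 0 P := by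
  haveI : HasInjectiveResolutions X.Modules := CohFound.hasInjectiveResolutions_modules X
  have hLi := RA.isInvertible_of_isRelAmple π hL
  obtain ⟨N, hN⟩ := exists_van_pow hF hFf hL
  have hMc := CohFound.isCoh_of_isFinLocFree hM
  obtain ⟨n₀, hn₀⟩ := VA11.exists_epi_counit π hL M hMc.1 hMc.2
  -- a bundle on the base mapping onto the direct image
  have key : ∃ n, N ≤ n ∧ ∃ (G : Y.Modules)
      (v : (Scheme.Modules.pullback π).obj G ⟶ CohB1.tensorMod M (CohB1.tensorPow L n)),
      FlatMod.IsFinLocFree G ∧ Epi v := by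
    rcases hAB with hfl | ⟨H, hH⟩
    · haveI := LimH13.locallyOfFinitePresentation_of_noetherian π
      obtain ⟨N', hN'⟩ := (CMReg18.isFlatOver_iff_push (f := π) ((M1.isCoh_iff_isFP M).1 hMc) hL).1
        (DPerf.isFlatOver_of_isFlat π (KFlat.Sch.isFlat_of_isFinLocFree hM))
      refine ⟨N + n₀ + N', by omega, _, (Scheme.Modules.pullbackPushforwardAdjunction π).counit.app _,
        hN' _ (by omega), hn₀ _ (by omega)⟩
    · have hP := hn₀ (N + n₀) (by omega)
      have hc : Coh.IsCoh ((Scheme.Modules.pushforward π).obj (CohB1.tensorMod M (CohB1.tensorPow L (N + n₀)))) :=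
        CMReg18.isCoh_push π (CohFound.isCoh_tensor hMc
          (CohFound.isCoh_of_isFinLocFree (M2.isFinLocFree_of_isInvertible (M2.isInvertible_tensorPow hLi _))))
      obtain ⟨G, w, hG, hw⟩ := S1108.result Y H hH _ hc.1 hc.2
      haveI := hP
      haveI := hw
      refine ⟨N + n₀, by omega, G, (Scheme.Modules.pullback π).map w ≫
        (Scheme.Modules.pullbackPushforwardAdjunction π).counit.app _, hG, ?_⟩
      haveI := (Scheme.Modules.pullbackPushforwardAdjunction π).leftAdjoint_preservesColimits.{0, 0}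
      haveI : Epi ((Scheme.Modules.pullback π).map w) := (Scheme.Modules.pullback π).map_epi w
      infer_instance
  obtain ⟨n, hn, G, v, hG, hv⟩ := key
  have hPi : PicF.IsInvertible (CohB1.tensorPow L n) := M2.isInvertible_tensorPow hLi n
  obtain ⟨D, hD, ⟨e⟩⟩ := M2.exists_inverse hPi
  haveI := hv
  haveI : Epi (M2.tensorMap v (𝟙 D)) := CohFound.epi_tensorMap v D
  exact ⟨G, _, D, M2.tensorMap v (𝟙 D) ≫
      (M2.tensorAssoc M _ D ≪≫ M2.tensorIso (Iso.refl M) e ≪≫ M2.tensorRUnit M).hom,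
    hG, inferInstance, hPi, hD, ⟨e⟩, hN n hn⟩

/-- The dual of an inverse twist of a bundle from the base has acyclic twist. -/
theorem van_dual {F P D : X.Modules} (hP : PicF.IsInvertible P) (hD : PicF.IsInvertible D)
    (e : CohB1.tensorMod P D ≅ Coh.structureModule X) (h : Van π F 0 P) {G : Y.Modules}
    (hG : FlatMod.IsFinLocFree G) :
    Van π F 0 (CohMop.dual (CohB1.tensorMod ((Scheme.Modules.pullback π).obj G) D)) := by
  have hπG := M2.isFinLocFree_pullback π hG
  have hDf := M2.isFinLocFree_of_isInvertible hD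
  have cA := CohFound.isCoh_of_isFinLocFree hπG
  have cB := CohFound.isCoh_of_isFinLocFree hDf
  have cAB := CohFound.isCoh_tensor cA cB
  obtain ⟨d₁⟩ := S16492.Aux.dual_tensor hπG hDf cAB cA cB
  obtain ⟨d₂⟩ := S16492.Aux.dual_iso cAB
  obtain ⟨d₃⟩ := S16492.Aux.dual_iso cA
  obtain ⟨d₄⟩ := S16492.Aux.dual_iso cB
  obtain ⟨d₅⟩ := PBK5.Segre.nonempty_pullback_dual (π := π) hG
  obtain ⟨d₆⟩ := ES11.nonempty_dual_iso_of_inverse hD (M2.tensorComm D P ≪≫ e)
  exact (h.tensor_pullback (LefFEt11.isFinLocFree_dual hG)).of_iso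
    (d₂ ≪≫ d₁ ≪≫ M2.tensorIso (d₃.symm ≪≫ d₅.symm) (d₄.symm ≪≫ d₆)).symm

/-- Every bundle embeds in a bundle with acyclic twist, with quotient a bundle. -/
theorem exists_step {F : X.Modules} (hF : Coh.IsCoh F) (hFf : FlatMod.IsFlatOver π F)
    {L : X.Modules} (hL : RelAmple.IsRelAmple π L)
    (hAB : Flat π ∨ ∃ H : Y.Modules, CohB1.IsAmple H) {E : X.Modules} (hE : FlatMod.IsFinLocFree E) :
    ∃ (C Q : X.Modules) (f : E ⟶ C) (g : C ⟶ Q) (w : f ≫ g = 0), (ShortComplex.mk f g w).ShortExact ∧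
      FlatMod.IsFinLocFree C ∧ FlatMod.IsFinLocFree Q ∧ Van π F 0 C := by
  obtain ⟨G, P, D, v, hG, hv, hP, hD, ⟨e⟩, hvan⟩ :=
    exists_epi_good hF hFf hL hAB (CohMop.isFinLocFree_dual hE)
  haveI := hv
  let S : ShortComplex X.Modules := ShortComplex.mk (kernel.ι v) v (kernel.condition v)
  have hS : S.ShortExact := { exact := ShortComplex.exact_kernel v }
  have hU := M2.isFinLocFree_tensor (M2.isFinLocFree_pullback π hG) (M2.isFinLocFree_of_isInvertible hD)
  have hK : FlatMod.IsFinLocFree (kernel v) :=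
    DPerf.isFinLocFree_kernel (kernel.ι v) v (kernel.condition v) hS hU (CohMop.isFinLocFree_dual hE)
  have hd := ES11.shortExact_dual hS (CohMop.isFinLocFree_dual hE)
  haveI : ModSite.HasSheafHom (O := X.sheaf) E := CohMop.isLeftAdjoint_tenR E
  haveI := CohMop.isIso_bidual hE
  let T := ShortComplex.mk _ _ (CohMop.ihomNat_zero S (Coh.structureModule X))
  refine ⟨_, _, CohMop.bidual E ≫ T.f, T.g, by rw [Category.assoc, T.zero, comp_zero],
    ShortComplex.shortExact_of_iso ?_ hd, CohMop.isFinLocFree_dual hU, CohMop.isFinLocFree_dual hK,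
    van_dual hP hD e hvan hG⟩
  exact ShortComplex.isoMk (asIso (CohMop.bidual E)).symm (Iso.refl _) (Iso.refl _) (by simp [T]) (by simp [T])

end

end Groth.Agent.IntShRes5
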