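import Groth.Prelude.Def_DCoh4
import Groth.Agent.Lib.IntShRes5.Main

/-! The coresolution as a complex. -/

set_option autoImplicit false
set_option linter.style.haveILetI false
set_option backward.isDefEq.respectTransparency false
set_option backward.isDefEq.respectTransparency.types false
set_option maxHeartbeats 800000

universe u

open CategoryTheory CategoryTheory.Limits AlgebraicGeometry TopologicalSpace Opposite ZeroObject

noncomputable section

namespace Groth.Agent.IntShRes5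

open Groth.Agent

section Splice

variable {A : Type*} [Category A] [Abelian A] (E : A) (Q C : ℕ → A) (f : ∀ i, Q i ⟶ C i) (g : ∀ i, C i ⟶ Q (i + 1))
  (w : ∀ i, f i ≫ g i = 0) (e : E ≅ Q 0)

/-- The terms of a spliced complex. -/
def spliceX : ℕ → A
  | 0 => E
  | i + 1 => C i

/-- The differentials of a spliced complex. -/
def spliceD : ∀ i, spliceX E C i ⟶ spliceX E C (i + 1)
  | 0 => e.hom ≫ f 0
  | i + 1 => g i ≫ f (i + 1)

/-- Splicing short exact sequences. -/
def splice : CochainComplex A ℕ :=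
  CochainComplex.of (spliceX E C) (spliceD E Q C f g e) fun i => by
    cases i with
    | zero => simp [spliceD, reassoc_of% (w 0)]
    | succ i => simp [spliceD, reassoc_of% (w (i + 1))]

theorem acyclic_splice (hS : ∀ i, (ShortComplex.mk (f i) (g i) (w i)).ShortExact) :
    (splice E Q C f g w e).Acyclic := by
  have hd : ∀ i, (splice E Q C f g w e).d i (i + 1) = spliceD E Q C f g e i := fun i =>
    CochainComplex.of_d ..
  haveI : ∀ i, Mono (f i) := fun i => (hS i).mono_f
  haveI : ∀ i, Epi (g i) := fun i => (hS i).epi_g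
  intro i
  cases i with
  | zero =>
    rw [HomologicalComplex.exactAt_iff' _ 0 0 1 (by simp) (by simp)]
    refine (ShortComplex.exact_iff_mono _ ((splice E Q C f g w e).shape 0 0 (by simp))).2 ?_
    show Mono ((splice E Q C f g w e).d 0 (0 + 1))
    rw [hd]
    exact (inferInstance : Mono (e.hom ≫ f 0))
  | succ i =>
    rw [HomologicalComplex.exactAt_iff' _ i (i + 1) (i + 1 + 1) (by simp) (by simp)]
    have h1 : (ShortComplex.mk (f i) (g i ≫ f (i + 1)) (by rw [reassoc_of% (w i), zero_comp])).Exact :=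
      (ShortComplex.exact_iff_of_epi_of_isIso_of_mono (S₁ := ShortComplex.mk (f i) (g i) (w i))
        (S₂ := ShortComplex.mk (f i) (g i ≫ f (i + 1)) (by rw [reassoc_of% (w i), zero_comp]))
        { τ₁ := 𝟙 _, τ₂ := 𝟙 _, τ₃ := f (i + 1) }).1 (hS i).exact
    have key : ∀ {Z : A} (d : Z ⟶ C i) (p : Z ⟶ Q i) (hd' : d = p ≫ f i) [Epi p]
        (hw : d ≫ g i ≫ f (i + 1) = 0), (ShortComplex.mk d (g i ≫ f (i + 1)) hw).Exact := by
      intro Z d p hd' _ hw
      exact (ShortComplex.exact_iff_of_epi_of_isIso_of_mono (S₁ := ShortComplex.mk d (g i ≫ f (i + 1)) hw)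
        (S₂ := ShortComplex.mk (f i) (g i ≫ f (i + 1)) (by rw [reassoc_of% (w i), zero_comp]))
        { τ₁ := p, τ₂ := 𝟙 _, τ₃ := 𝟙 _, comm₁₂ := by simp [hd'] }).2 h1
    cases i with
    | zero =>
      exact (ShortComplex.exact_iff_of_iso
        (S₁ := (splice E Q C f g w e).sc' 0 (0 + 1) (0 + 1 + 1))
        (S₂ := ShortComplex.mk (e.hom ≫ f 0) (g 0 ≫ f 1) (by simp [reassoc_of% (w 0)]))
        (ShortComplex.isoMk (Iso.refl _) (Iso.refl _) (Iso.refl _) (by simp [hd, spliceD]) (by simp [hd, spliceD]))).2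
        (key (e.hom ≫ f 0) e.hom rfl _)
    | succ j =>
      exact (ShortComplex.exact_iff_of_iso
        (S₁ := (splice E Q C f g w e).sc' (j + 1) (j + 1 + 1) (j + 1 + 1 + 1))
        (S₂ := ShortComplex.mk (g j ≫ f (j + 1)) (g (j + 1) ≫ f (j + 1 + 1)) (by simp [reassoc_of% (w (j + 1))]))
        (ShortComplex.isoMk (Iso.refl _) (Iso.refl _) (Iso.refl _) (by simp [hd, spliceD]) (by simp [hd, spliceD]))).2
        (key (g j ≫ f (j + 1)) (g j) rfl _)

end Splice

variable {X Y : Scheme.{u}} {π : X ⟶ Y}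

theorem van_isZero {F E : X.Modules} (hE : IsZero E) (j : ℕ) : Van π F j E := fun s p _ => by
  letI : (π.fiber s).Over (Spec (CommRingCat.of (Y.residueField s))) := ⟨π.fiberToSpecResidueField s⟩
  haveI := (Scheme.Modules.pullbackPushforwardAdjunction (π.fiberι s)).leftAdjoint_preservesColimits.{0, 0}
  exact CMReg18.van_isZero (Y.residueField s) (((Scheme.Modules.pullback (π.fiberι s)).map_isZero
    ((M2.tensorR F).map_isZero hE)).of_iso ((Scheme.Modules.pullback (π.fiberι s)).mapIso (M2.tensorComm F E))) p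

/-- Bundles with a coresolution of length `k`. -/
def St (π : X ⟶ Y) (F : X.Modules) : Type (u + 1) :=
  { a : ℕ × X.Modules // FlatMod.IsFinLocFree a.2 ∧ (a.1 = 0 → IsZero a.2) ∧ ∀ j, a.1 = j + 1 → Van π F j a.2 }

/-- A state of the coresolution. -/
def mkSt {F : X.Modules} (k : ℕ) (M : X.Modules) (hM : FlatMod.IsFinLocFree M) (h0 : k = 0 → IsZero M)
    (hV : ∀ j, k = j + 1 → Van π F j M) : St π F := ⟨(k, M), hM, h0, hV⟩

/-- The identity followed by zero. -/
theorem shortExact_id_zero {A Z : X.Modules} (hZ : IsZero Z) :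
    (ShortComplex.mk (𝟙 A) (0 : A ⟶ Z) comp_zero).ShortExact := by
  haveI : Mono (ShortComplex.mk (𝟙 A) (0 : A ⟶ Z) comp_zero).f := inferInstanceAs (Mono (𝟙 A))
  haveI : Epi (ShortComplex.mk (𝟙 A) (0 : A ⟶ Z) comp_zero).g := ⟨fun _ _ _ => hZ.eq_of_src _ _⟩
  exact ⟨(ShortComplex.exact_iff_epi _ rfl).2 (inferInstanceAs (Epi (𝟙 A)))⟩

/-- One step of the coresolution. -/
theorem exists_St_step [IsNoetherian X] [IsNoetherian Y] [IsProper π] {F : X.Modules} (hF : Coh.IsCoh F)
    (hFf : FlatMod.IsFlatOver π F) {L : X.Modules} (hL : RelAmple.IsRelAmple π L)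
    (hAB : Flat π ∨ ∃ H : Y.Modules, CohB1.IsAmple H) (k : ℕ) (M : X.Modules) (hM : FlatMod.IsFinLocFree M)
    (h0 : k = 0 → IsZero M) (hV : ∀ j, k = j + 1 → Van π F j M) :
    ∃ (C Q : X.Modules) (f : M ⟶ C) (g : C ⟶ Q) (w : f ≫ g = 0), (ShortComplex.mk f g w).ShortExact ∧
      FlatMod.IsFinLocFree C ∧ Van π F 0 C ∧ FlatMod.IsFinLocFree Q ∧ (k - 1 = 0 → IsZero Q) ∧
      (∀ j, k - 1 = j + 1 → Van π F j Q) ∧ (k = 0 → IsZero C) := by
  rcases k with _ | _ | j
  · exact ⟨M, M, 𝟙 M, 0, comp_zero, shortExact_id_zero (h0 rfl), hM, van_isZero (h0 rfl) 0, hM,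
      fun _ => h0 rfl, fun j hj => absurd hj (by omega), h0⟩
  · obtain ⟨Z, hZ⟩ : ∃ Z : X.Modules, IsZero Z := ⟨_, isZero_zero _⟩
    exact ⟨M, Z, 𝟙 M, 0, comp_zero, shortExact_id_zero hZ, hM, hV 0 rfl, KFlat.Sch.isFinLocFree_of_isZero hZ,
      fun _ => hZ, fun j hj => absurd hj (by omega), fun h => absurd h (by omega)⟩
  · obtain ⟨C, Q, f, g, w, hS, hC, hQ, hvan⟩ := exists_step hF hFf hL hAB hM
    refine ⟨C, Q, f, g, w, hS, hC, hvan, hQ, fun h => absurd h (by omega), fun j' hj' => ?_,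
      fun h => absurd h (by omega)⟩
    obtain rfl : j = j' := by omega
    have h1 : Van π F (j + 1) M := hV (j + 1) rfl
    have h2 := Van.quot (π := π) (F := F) (j := j) (S := ShortComplex.mk f g w) hS
    have h3 := h2 hQ
    exact h3 h1 hvan

/-- The coresolution with acyclic twists. -/
theorem exists_complex [IsNoetherian X] [IsNoetherian Y] [IsProper π] {F : X.Modules} (hF : Coh.IsCoh F)
    (hFf : FlatMod.IsFlatOver π F) {L : X.Modules} (hL : RelAmple.IsRelAmple π L)
    (hAB : Flat π ∨ ∃ H : Y.Modules, CohB1.IsAmple H) {d : ℕ}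
    (hd : ∀ y : Y, topologicalKrullDim ↥{x : X | x ∈ CohB1.support F ∧ π.base x = y} ≤ d)
    {E : X.Modules} (hE : FlatMod.IsFinLocFree E) :
    ∃ (C : CochainComplex X.Modules ℕ) (_ : C.X 0 ≅ E),
      C.Acyclic ∧ (∀ i, d + 1 < i → IsZero (C.X i)) ∧ (∀ i, FlatMod.IsFinLocFree (C.X i)) ∧
      ∀ i, 1 ≤ i → ∀ p, 0 < p →
        IsZero ((Coh.RpushAb π p).obj (Coh.toAb (CohB1.tensorMod F (C.X i)))) := by
  choose C Q f g w hS hC hvan hQ hQ0 hQV hz using
    fun b : St π F => exists_St_step hF hFf hL hAB b.1.1 b.1.2 b.2.1 b.2.2.1 b.2.2.2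
  let next : St π F → St π F := fun b => mkSt (b.1.1 - 1) (Q b) (hQ b) (hQ0 b) (hQV b)
  let a : ℕ → St π F := fun i => Nat.rec
    (mkSt (d + 1) E hE (fun h => absurd h (Nat.succ_ne_zero d))
      fun j hj => by obtain rfl : d = j := by simpa using hj
                     exact van_of_support hF hd hE) (fun _ b => next b) i
  have hka : ∀ i, (a i).1.1 = d + 1 - i := by
    intro i
    induction i with
    | zero => rfl
    | succ i ih => show (a i).1.1 - 1 = _; rw [ih]; omega
  let K := splice E (fun i => (a i).1.2) (fun i => C (a i)) (fun i => f (a i)) (fun i => g (a i)) (fun i => w (a i)) (Iso.refl E)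
  refine ⟨K, Iso.refl E, acyclic_splice E (fun i => (a i).1.2) (fun i => C (a i)) (fun i => f (a i))
    (fun i => g (a i)) (fun i => w (a i)) (Iso.refl E) (fun i => hS (a i)), ?_, ?_, ?_⟩
  · rintro (_ | i) hi
    · omega
    · exact hz (a i) (by rw [hka]; omega)
  · rintro (_ | i)
    · exact hE
    · exact hC (a i)
  · rintro (_ | i) hi p hp
    · omega
    · haveI : IsLocallyNoetherian X := LocallyOfFiniteType.isLocallyNoetherian π
      exact (CMReg18.isFinLocFree_push_of_vanishing (f := π)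
        ((M1.isCoh_iff_isFP _).1 (CohFound.isCoh_tensor hF (CohFound.isCoh_of_isFinLocFree (hC (a i)))))
        (CBC10.isFlatOver_tensor_lf π hFf (hC (a i))) fun s q hq => hvan (a i) s q hq).2 p hp

end Groth.Agent.IntShRes5
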