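import Groth.Prelude.Def_KDet
import Groth.Prelude.Def_CohBC2
import Groth.Agent.Lib.IntShRes5.Cx
import Groth.Agent.Lib.CMReg18.PointBC
import Groth.Agent.Lib.CBC10.Bc0
import Groth.Agent.Lib.Exact8.StalkBC2

/-! Bundles with acyclic twists generate, and the push-forward is determined by them. -/

set_option autoImplicit false
set_option linter.style.haveILetI false
set_option backward.isDefEq.respectTransparency false
set_option backward.isDefEq.respectTransparency.types false
set_option maxHeartbeats 800000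
set_option synthInstance.maxHeartbeats 100000

universe u

open CategoryTheory CategoryTheory.Limits AlgebraicGeometry TopologicalSpace Opposite

noncomputable section

namespace Groth.Agent.IntShRes5

open Groth.Agent
open Groth.Agent.ExtFil4 (cl)

attribute [local instance] ExtFil4.kvbRing

variable {X Y : Scheme.{u}} {π : X ⟶ Y} {F : X.Modules}

/-- Bundles whose twist is acyclic on every fibre. -/
def GoodB (π : X ⟶ Y) (F E : X.Modules) : Prop := FlatMod.IsFinLocFree E ∧ Van π F 0 E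

/-- The twist of a bundle from the base by a good bundle is good. -/
theorem GoodB.tensor_pullback {E : X.Modules} (h : GoodB π F E) {G : Y.Modules} (hG : FlatMod.IsFinLocFree G) :
    GoodB π F (CohB1.tensorMod ((Scheme.Modules.pullback π).obj G) E) :=
  ⟨M2.isFinLocFree_tensor (M2.isFinLocFree_pullback π hG) h.1, h.2.tensor_pullback hG⟩

/-- The twist of the projection formula. -/
def tensorSwap (A B C : X.Modules) : CohB1.tensorMod A (CohB1.tensorMod B C) ≅ CohB1.tensorMod B (CohB1.tensorMod A C) :=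
  (M2.tensorAssoc A B C).symm ≪≫ M2.tensorIso (M2.tensorComm A B) (Iso.refl C) ≪≫ M2.tensorAssoc B A C

/-- The direct image of a bundle twisted from the base. -/
def pushTwistIso {E : X.Modules} {G : Y.Modules} (hG : FlatMod.IsFinLocFree G) :
    (Scheme.Modules.pushforward π).obj (CohB1.tensorMod F (CohB1.tensorMod ((Scheme.Modules.pullback π).obj G) E)) ≅
      CohB1.tensorMod G ((Scheme.Modules.pushforward π).obj (CohB1.tensorMod F E)) :=
  (Scheme.Modules.pushforward π).mapIso (tensorSwap F _ E) ≪≫ PBK5.pushPullIso π hG (CohB1.tensorMod F E)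

section

variable [IsNoetherian Y] [IsProper π]

theorem GoodB.cohb1 (hF : Coh.IsCoh F) {E : X.Modules} (h : GoodB π F E) :
    Coh.IsCoh (CohB1.tensorMod F E) :=
  CohFound.isCoh_tensor hF (CohFound.isCoh_of_isFinLocFree h.1)

theorem GoodB.push (hF : Coh.IsCoh F) (hFf : FlatMod.IsFlatOver π F) {E : X.Modules} (h : GoodB π F E) :
    FlatMod.IsFinLocFree ((Scheme.Modules.pushforward π).obj (CohB1.tensorMod F E)) ∧
      ∀ p : ℕ, 1 ≤ p → IsZero ((Coh.RpushAb π p).obj (Coh.toAb (CohB1.tensorMod F E))) := by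
  haveI : IsLocallyNoetherian X := LocallyOfFiniteType.isLocallyNoetherian π
  exact CMReg18.isFinLocFree_push_of_vanishing (f := π) ((M1.isCoh_iff_isFP _).1 (h.cohb1 hF))
    (CBC10.isFlatOver_tensor_lf π hFf h.1) fun s q hq => h.2 s q hq

variable {KX : Type u} [CommRing KX] {φX : SGA6.Kvb X →+ KX} {KY : Type u} [CommRing KY] {φY : SGA6.Kvb Y →+ KY}
  {g : KX →+ KY} [HasInjectiveResolutions X.Modules]

/-- The push-forward on a good bundle. -/
theorem push_cl (hF : Coh.IsCoh F) (hFf : FlatMod.IsFlatOver π F) (hg : KDet.IsPushF π F φX φY g)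
    {E : X.Modules} (h : GoodB π F E) :
    g (φX (cl E)) = φY (cl ((Scheme.Modules.pushforward π).obj (CohB1.tensorMod F E))) :=
  hg E h.1 (fun p hp => PBK5.Segre.isZero_rpush_of_ab ((h.push hF hFf).2 p hp)) (h.push hF hFf).1

/-- The push-forward on a good bundle twisted from the base. -/
theorem push_cl_tensor (hF : Coh.IsCoh F) (hFf : FlatMod.IsFlatOver π F) (hg : KDet.IsPushF π F φX φY g)
    {E : X.Modules} (h : GoodB π F E) {G : Y.Modules} (hG : FlatMod.IsFinLocFree G) :
    g (φX (PBK5.pullHom π (cl G) * cl E)) =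
      φY (cl G * cl ((Scheme.Modules.pushforward π).obj (CohB1.tensorMod F E))) := by
  rw [PBK5.pullHom_cl π hG, PBK5.cl_mul (M2.isFinLocFree_pullback π hG) h.1,
    push_cl hF hFf hg (h.tensor_pullback hG), PBK5.cl_mul hG (h.push hF hFf).1]
  exact congrArg φY (PBK5.cl_congr (pushTwistIso hG) ((h.tensor_pullback hG).push hF hFf).1)

end

/-- The classes of good bundles generate. -/
theorem closure_good [IsNoetherian X] [IsNoetherian Y] (hπ : RelProj.IsProjective π) (hF : Coh.IsCoh F)
    (hFf : FlatMod.IsFlatOver π F) {d : ℕ}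
    (hd : ∀ y : Y, topologicalKrullDim ↥{x : X | x ∈ CohB1.support F ∧ π.base x = y} ≤ d)
    (hAB : Flat π ∨ ∃ H : Y.Modules, CohB1.IsAmple H) :
    AddSubgroup.closure {c : SGA6.Kvb X | ∃ E, GoodB π F E ∧ c = cl E} = ⊤ := by
  haveI := QuotProj11.isProper_of_isProjective hπ
  obtain ⟨L, hL⟩ := exists_relAmple hπ
  rw [eq_top_iff]
  intro z hz
  clear hz
  induction z using K0Cat.clSub_induction with
  | h0 => exact zero_mem _
  | hneg b hb => exact neg_mem hb
  | hadd b c hb hc => exact add_mem hb hc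
  | hcl M hM =>
    suffices H : ∀ (k : ℕ) (M : X.Modules), FlatMod.IsFinLocFree M → (k = 0 → IsZero M) →
        (∀ j, k = j + 1 → Van π F j M) →
        cl M ∈ AddSubgroup.closure {c : SGA6.Kvb X | ∃ E, GoodB π F E ∧ c = cl E} from
      H (d + 1) M hM (fun h => absurd h (Nat.succ_ne_zero d))
        fun j hj => by obtain rfl : d = j := by simpa using hj
                       exact van_of_support hF hd hM
    intro k
    induction k with
    | zero =>
      intro M hM h0 _
      exact AddSubgroup.subset_closure ⟨M, ⟨hM, van_isZero (h0 rfl) 0⟩, rfl⟩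
    | succ k ih =>
      intro M hM h0 hV
      obtain ⟨C, Q, f, g, w, hS, hC, hvan, hQ, hQ0, hQV, -⟩ := exists_St_step hF hFf hL hAB (k + 1) M hM h0 hV
      have e : cl C = cl M + cl Q := PBK5.cl_ses _ hS hM hC hQ
      rw [eq_sub_of_add_eq e.symm]
      exact sub_mem (AddSubgroup.subset_closure ⟨C, ⟨hC, hvan⟩, rfl⟩) (ih Q hQ hQ0 hQV)

/-- Induction on good bundles. -/
theorem good_ext [IsNoetherian X] [IsNoetherian Y] (hπ : RelProj.IsProjective π) (hF : Coh.IsCoh F)
    (hFf : FlatMod.IsFlatOver π F) {d : ℕ}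
    (hd : ∀ y : Y, topologicalKrullDim ↥{x : X | x ∈ CohB1.support F ∧ π.base x = y} ≤ d)
    (hAB : Flat π ∨ ∃ H : Y.Modules, CohB1.IsAmple H) {A : Type*} [AddCommGroup A]
    {a b : SGA6.Kvb X →+ A} (h : ∀ E, GoodB π F E → a (cl E) = b (cl E)) (z : SGA6.Kvb X) : a z = b z :=
  DFunLike.congr_fun (AddMonoidHom.eq_of_eqOn_dense (closure_good hπ hF hFf hd hAB)
    (fun c hc => by obtain ⟨E, hE, rfl⟩ := hc; exact h E hE)) z

/-- The projection formula. -/
theorem push_pull_mul [IsNoetherian X] [IsNoetherian Y] [HasInjectiveResolutions X.Modules]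
    (hπ : RelProj.IsProjective π) (hF : Coh.IsCoh F) (hFf : FlatMod.IsFlatOver π F) {d : ℕ}
    (hd : ∀ y : Y, topologicalKrullDim ↥{x : X | x ∈ CohB1.support F ∧ π.base x = y} ≤ d)
    (hAB : Flat π ∨ ∃ H : Y.Modules, CohB1.IsAmple H)
    {KX : Type u} [CommRing KX] [LambdaRing.LambdaOps KX] {PX : LambdaRing.PosStructure KX}
    {φX : SGA6.Kvb X →+ KX} (hKX : KRR.IsModel X KX PX φX)
    {KY : Type u} [CommRing KY] [LambdaRing.LambdaOps KY] {PY : LambdaRing.PosStructure KY}
    {φY : SGA6.Kvb Y →+ KY} (hKY : KRR.IsModel Y KY PY φY)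
    {g : KX →+ KY} (hg : KDet.IsPushF π F φX φY g) {p : KY →+ KX} (hp : KRR.IsPull π φY φX p)
    (b : KY) (x : KX) : g (p b * x) = b * g x := by
  haveI := QuotProj11.isProper_of_isProjective hπ
  obtain ⟨w, rfl⟩ := hKY.bijective.2 b
  obtain ⟨z, rfl⟩ := hKX.bijective.2 x
  rw [PBK5.isPull_apply hp, ← PBK5.modelHom_apply hKX, ← PBK5.modelHom_apply hKX, ← map_mul,
    PBK5.modelHom_apply hKX, PBK5.modelHom_apply hKX]
  induction w using K0Cat.clSub_induction with
  | h0 => simp
  | hneg b hb => simp only [map_neg, neg_mul, hb]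
  | hadd b c hb hc => simp only [map_add, add_mul, hb, hc]
  | hcl G hG =>
    change g (φX (PBK5.pullHom π (cl G) * z)) = φY (cl G) * g (φX z)
    refine good_ext hπ hF hFf hd hAB
      (a := g.comp (φX.comp (AddMonoidHom.mulLeft (PBK5.pullHom π (cl G)))))
      (b := (AddMonoidHom.mulLeft (φY (cl G))).comp (g.comp φX)) (fun E hE => ?_) z
    show g (φX (PBK5.pullHom π (cl G) * cl E)) = φY (cl G) * g (φX (cl E))
    rw [push_cl_tensor hF hFf hg hE hG, push_cl hF hFf hg hE, ← PBK5.modelHom_apply hKY, map_mul,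
      PBK5.modelHom_apply hKY, PBK5.modelHom_apply hKY]

section BaseChange

variable {X' Y' : Scheme.{u}} {h : Y' ⟶ Y} {q₁ : X' ⟶ X} {q₂ : X' ⟶ Y'}

/-- Goodness survives base change. -/
theorem GoodB.baseChange [IsNoetherian Y] [IsProper π] (hsq : IsPullback q₁ q₂ π h) (hF : Coh.IsCoh F)
    {E : X.Modules} (hE : GoodB π F E) :
    GoodB q₂ ((Scheme.Modules.pullback q₁).obj F) ((Scheme.Modules.pullback q₁).obj E) := by
  haveI : IsLocallyNoetherian X := LocallyOfFiniteType.isLocallyNoetherian π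
  refine ⟨M2.isFinLocFree_pullback q₁ hE.1, fun t p hp => ?_⟩
  letI : (q₂.fiber t).Over (Spec (CommRingCat.of (Y'.residueField t))) := ⟨q₂.fiberToSpecResidueField t⟩
  exact CMReg18.van_iso (Y'.residueField t)
    ((Scheme.Modules.pullback (q₂.fiberι t)).mapIso (M2.pullTensorIso q₁ F E))
    (CMReg18.subsingleton_fiberH_baseChange hsq ((M1.isCoh_iff_isFP _).1 (hE.cohb1 hF)) t p (hE.2 (h t) p hp))

/-- Base change of the direct image of a good bundle. -/
theorem nonempty_baseChange_iso [IsNoetherian Y] [IsProper π] (hsq : IsPullback q₁ q₂ π h) (hF : Coh.IsCoh F)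
    (hFf : FlatMod.IsFlatOver π F) {E : X.Modules} (hE : GoodB π F E) :
    Nonempty ((Scheme.Modules.pullback h).obj ((Scheme.Modules.pushforward π).obj (CohB1.tensorMod F E)) ≅
      (Scheme.Modules.pushforward q₂).obj
        (CohB1.tensorMod ((Scheme.Modules.pullback q₁).obj F) ((Scheme.Modules.pullback q₁).obj E))) := by
  haveI : IsLocallyNoetherian X := LocallyOfFiniteType.isLocallyNoetherian π
  have hc := hE.cohb1 hF
  haveI : Coh.IsQCoh (CohB1.tensorMod F E) := hc.1
  haveI : IsIso (CohBC.bc0 π h q₂ q₁ hsq.w (CohB1.tensorMod F E)) := CBC10.isIso_bc0 hsq _ fun z => by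
    obtain ⟨V, M, hzV, h1, -⟩ := CBC10.exists_nhd_H1 ((M1.isCoh_iff_isFP _).1 hc)
      (CBC10.isFlatOver_tensor_lf π hFf hE.1) (h z) (hE.2 (h z) 1 one_pos)
    exact ⟨V, M, hzV, h1⟩
  exact ⟨asIso (CohBC.bc0 π h q₂ q₁ hsq.w _) ≪≫
    (Scheme.Modules.pushforward q₂).mapIso (M2.pullTensorIso q₁ F E)⟩

/-- Base change of the push-forward. -/
theorem push_baseChange [IsNoetherian X] [IsNoetherian Y] [IsNoetherian X'] [IsNoetherian Y']
    [HasInjectiveResolutions X.Modules] [HasInjectiveResolutions X'.Modules]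
    (hπ : RelProj.IsProjective π) (hsq : IsPullback q₁ q₂ π h) (hF : Coh.IsCoh F)
    (hFf : FlatMod.IsFlatOver π F) {d : ℕ}
    (hd : ∀ y : Y, topologicalKrullDim ↥{x : X | x ∈ CohB1.support F ∧ π.base x = y} ≤ d)
    (hAB : Flat π ∨ ∃ H : Y.Modules, CohB1.IsAmple H)
    {KX : Type u} [CommRing KX] [LambdaRing.LambdaOps KX] {PX : LambdaRing.PosStructure KX}
    {φX : SGA6.Kvb X →+ KX} (hKX : KRR.IsModel X KX PX φX)
    {KY : Type u} [CommRing KY] [LambdaRing.LambdaOps KY] {PY : LambdaRing.PosStructure KY}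
    {φY : SGA6.Kvb Y →+ KY} (hKY : KRR.IsModel Y KY PY φY)
    {g : KX →+ KY} (hg : KDet.IsPushF π F φX φY g)
    {KX' : Type u} [CommRing KX'] {φX' : SGA6.Kvb X' →+ KX'} {KY' : Type u} [CommRing KY'] {φY' : SGA6.Kvb Y' →+ KY'}
    {g' : KX' →+ KY'} (hg' : KDet.IsPushF q₂ ((Scheme.Modules.pullback q₁).obj F) φX' φY' g')
    (z : SGA6.Kvb X) (w : SGA6.Kvb Y') :
    g' (φX' (PBK5.pullHom q₂ w * PBK5.pullHom q₁ z)) =
      φY' (w * PBK5.pullHom h ((AddEquiv.ofBijective φY hKY.bijective).symm (g (φX z)))) := by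
  haveI := QuotProj11.isProper_of_isProjective hπ
  haveI : IsProper q₂ := MorphismProperty.of_isPullback (P := @IsProper) hsq inferInstance
  induction w using K0Cat.clSub_induction with
  | h0 => simp
  | hneg b hb => simp only [map_neg, neg_mul, hb]
  | hadd b c hb hc => simp only [map_add, add_mul, hb, hc]
  | hcl G hG =>
    change g' (φX' (PBK5.pullHom q₂ (cl G) * PBK5.pullHom q₁ z)) =
      φY' (cl G * PBK5.pullHom h ((AddEquiv.ofBijective φY hKY.bijective).symm (g (φX z))))
    refine good_ext hπ hF hFf hd hAB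
      (a := g'.comp (φX'.comp ((AddMonoidHom.mulLeft (PBK5.pullHom q₂ (cl G))).comp (PBK5.pullHom q₁).toAddMonoidHom)))
      (b := φY'.comp ((AddMonoidHom.mulLeft (cl G)).comp ((PBK5.pullHom h).toAddMonoidHom.comp
        ((AddEquiv.ofBijective φY hKY.bijective).symm.toAddMonoidHom.comp (g.comp φX))))) (fun E hE => ?_) z
    show g' (φX' (PBK5.pullHom q₂ (cl G) * PBK5.pullHom q₁ (cl E))) =
      φY' (cl G * PBK5.pullHom h ((AddEquiv.ofBijective φY hKY.bijective).symm (g (φX (cl E)))))
    have hE' := hE.baseChange hsq hF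
    have hFf' := Exact8.isFlatOver_pullback hsq hFf
    rw [PBK5.pullHom_cl q₁ hE.1, push_cl_tensor (M1.isCoh_pullback q₁ hF) hFf' hg' hE' hG, push_cl hF hFf hg hE,
      show φY (cl _) = AddEquiv.ofBijective φY hKY.bijective (cl _) from rfl, AddEquiv.symm_apply_apply,
      PBK5.pullHom_cl h (hE.push hF hFf).1]
    obtain ⟨e⟩ := nonempty_baseChange_iso hsq hF hFf hE
    exact congrArg φY' (congrArg (cl G * ·) (PBK5.cl_congr e (M2.isFinLocFree_pullback h (hE.push hF hFf).1)).symm)

end BaseChange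

end Groth.Agent.IntShRes5
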