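import Groth.Prelude.Def_CurvBase
import Groth.Agent.Lib.IntShRes5.Gen
import Groth.Agent.Lib.Snapper.Main
import Groth.Agent.Lib.AmpleFin18.PushEuler
import Groth.Agent.Lib.PBK5.DimFil
import Groth.Agent.Lib.CMReg18.FlatCrit

/-! The rank of the twisted push-forward vanishes above the relative dimension. -/

set_option autoImplicit false
set_option linter.style.haveILetI false
set_option backward.isDefEq.respectTransparency false
set_option backward.isDefEq.respectTransparency.types false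
set_option maxHeartbeats 800000
set_option synthInstance.maxHeartbeats 100000

universe u

open CategoryTheory CategoryTheory.Limits AlgebraicGeometry TopologicalSpace Opposite

noncomputable section

namespace Groth.Agent.IntShRes5

open Groth.Agent
open Groth.Agent.ExtFil4 (cl)

attribute [local instance] ExtFil4.kvbRing

section Field

variable (k : Type u) [Field k] {W : Scheme.{u}} [W.Over (Spec (CommRingCat.of k))]
  [IsProper (W ↘ Spec (CommRingCat.of k))]

theorem euler_ses {S : ShortComplex W.Modules} (hS : S.ShortExact) (h₁ : Coh.IsCoh S.X₁) (h₂ : Coh.IsCoh S.X₂)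
    (h₃ : Coh.IsCoh S.X₃) : Curv2.euler k W S.X₂ = Curv2.euler k W S.X₁ + Curv2.euler k W S.X₃ := by
  obtain ⟨N, hN⟩ := EulerAdd18.exists_bdd k W
  exact EulerAdd18.euler_add hS (hN _ h₁) (hN _ h₂) (hN _ h₃)

theorem coh_tensor_vb {M E : W.Modules} (hM : Coh.IsCoh M) (hE : FlatMod.IsFinLocFree E) :
    Coh.IsCoh (CohB1.tensorMod M E) :=
  CurveCoh17.isCoh_tensor hM (CohFound.isCoh_of_isFinLocFree hE)

theorem euler_tensor_ses {M : W.Modules} (hM : Coh.IsCoh M) (S : ShortComplex W.Modules)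
    (h₁ : FlatMod.IsFinLocFree S.X₁) (h₂ : FlatMod.IsFinLocFree S.X₂) (h₃ : FlatMod.IsFinLocFree S.X₃)
    (hS : S.ShortExact) :
    Curv2.euler k W (CohB1.tensorMod M S.X₂) =
      Curv2.euler k W (CohB1.tensorMod M S.X₁) + Curv2.euler k W (CohB1.tensorMod M S.X₃) := by
  rw [CurveCoh17.euler_iso (M2.tensorComm M S.X₂), CurveCoh17.euler_iso (M2.tensorComm M S.X₁),
    CurveCoh17.euler_iso (M2.tensorComm M S.X₃)]
  have c₁ : Coh.IsCoh (CohB1.tensorMod S.X₁ M) := CurveCoh17.isCoh_tensor (CohFound.isCoh_of_isFinLocFree h₁) hM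
  have c₂ : Coh.IsCoh (CohB1.tensorMod S.X₂ M) := CurveCoh17.isCoh_tensor (CohFound.isCoh_of_isFinLocFree h₂) hM
  have c₃ : Coh.IsCoh (CohB1.tensorMod S.X₃ M) := CurveCoh17.isCoh_tensor (CohFound.isCoh_of_isFinLocFree h₃) hM
  have hT := shortExact_tensorR_vb hS h₃ M
  exact euler_ses k (S := S.map (M2.tensorR M)) hT c₁ c₂ c₃

/-- The Euler characteristic of a coherent module twisted by classes of bundles. -/
def chiK {M : W.Modules} (hM : Coh.IsCoh M) : SGA6.Kvb W →+ ℤ :=
  K0Cat.liftSub (fun E : Subtype (KRR.vbP W) => Curv2.euler k W (CohB1.tensorMod M E.1))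
    fun S h₁ h₂ h₃ hS => euler_tensor_ses k hM S h₁ h₂ h₃ hS

theorem chiK_cl {M : W.Modules} (hM : Coh.IsCoh M) {E : W.Modules} (hE : FlatMod.IsFinLocFree E) :
    chiK k hM (cl E) = Curv2.euler k W (CohB1.tensorMod M E) :=
  K0Cat.liftSub_clSub _ _ hE

theorem chiK_congr {M N : W.Modules} (e : M ≅ N) (hM : Coh.IsCoh M) (hN : Coh.IsCoh N) (c : SGA6.Kvb W) :
    chiK k hM c = chiK k hN c := by
  induction c using K0Cat.clSub_induction with
  | h0 => simp
  | hneg b hb => simp [hb]
  | hadd b c hb hc => simp [hb, hc]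
  | hcl E hE =>
    change chiK k hM (cl E) = chiK k hN (cl E)
    rw [chiK_cl k hM hE, chiK_cl k hN hE, CurveCoh17.euler_iso (M2.tensorIso e (Iso.refl E))]

theorem chiK_add {S : ShortComplex W.Modules} (hS : S.ShortExact) (h₁ : Coh.IsCoh S.X₁) (h₂ : Coh.IsCoh S.X₂)
    (h₃ : Coh.IsCoh S.X₃) (c : SGA6.Kvb W) : chiK k h₂ c = chiK k h₁ c + chiK k h₃ c := by
  induction c using K0Cat.clSub_induction with
  | h0 => simp
  | hneg b hb => simp only [map_neg, hb]; abel
  | hadd b c hb hc => simp only [map_add, hb, hc]; abel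
  | hcl E hE =>
    change chiK k h₂ (cl E) = chiK k h₁ (cl E) + chiK k h₃ (cl E)
    rw [chiK_cl k h₁ hE, chiK_cl k h₂ hE, chiK_cl k h₃ hE]
    haveI : ∀ x : W, Module.Flat (W.presheaf.stalk x) (E.presheaf.stalk x) := fun x => by
      obtain ⟨U, n, hxU, ⟨e⟩⟩ := hE x
      haveI := M1.free_stalk_of_freeMod (CohFound.isCoh_of_isFinLocFree hE).1 e hxU
      infer_instance
    have c₁ : Coh.IsCoh (CohB1.tensorMod S.X₁ E) := coh_tensor_vb h₁ hE
    have c₂ : Coh.IsCoh (CohB1.tensorMod S.X₂ E) := coh_tensor_vb h₂ hE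
    have c₃ : Coh.IsCoh (CohB1.tensorMod S.X₃ E) := coh_tensor_vb h₃ hE
    exact euler_ses k (S := S.map (M2.tensorR E)) (CurveCoh17.shortExact_tensorR hS E this) c₁ c₂ c₃

theorem chiK_isZero {M : W.Modules} (hM : Coh.IsCoh M) (hz : IsZero M) (c : SGA6.Kvb W) : chiK k hM c = 0 := by
  induction c using K0Cat.clSub_induction with
  | h0 => simp
  | hneg b hb => simp [hb]
  | hadd b c hb hc => simp [hb, hc]
  | hcl E hE =>
    change chiK k hM (cl E) = 0
    rw [chiK_cl k hM hE]
    exact Snapper.euler_of_isZero (coh_tensor_vb hM hE) ((M2.tensorR E).map_isZero hz)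

/-- Classes dying on small integral closed subschemes have no Euler characteristic on small supports. -/
theorem chiK_eq_zero {c : SGA6.Kvb W} {d : ℕ}
    (hc : ∀ (Z : Scheme.{u}) (i : Z ⟶ W), IsClosedImmersion i → IsIntegral Z →
      topologicalKrullDim Z ≤ (d : WithBot ℕ∞) → PBK5.pullHom i c = 0)
    {M : W.Modules} (hM : Coh.IsCoh M) (hdim : topologicalKrullDim (CohB1.support M) ≤ (d : WithBot ℕ∞)) :
    chiK k hM c = 0 := by
  haveI : IsNoetherian W := CohFound.isNoetherian_of_isProper (W ↘ (Spec (CommRingCat.of k)))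
  let P : W.Modules → Prop := fun N => ∀ hN : Coh.IsCoh N, chiK k hN c = 0
  have hPiso : ∀ A B : W.Modules, Nonempty (A ≅ B) → P A → P B := fun A B ⟨e⟩ hA hB =>
    (chiK_congr k e (CohFound.isCoh_of_iso e.symm hB) hB c).symm.trans (hA _)
  have hP : CohFound.TwoOfThreeOn P (CohB1.support M) :=
    { of_isZero := fun N _ hz hN => chiK_isZero k hN hz c
      mid := fun S hS h1 h2 h3 _ p1 p3 hN => by rw [chiK_add k hS h1 hN h3, p1 h1, p3 h3, add_zero]
      left := fun S hS h1 h2 h3 _ p2 p3 hN => by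
        have := chiK_add k hS hN h2 h3 c; rw [p2 h2, p3 h3] at this; omega
      right := fun S hS h1 h2 h3 _ p1 p2 hN => by
        have := chiK_add k hS h1 h2 hN c; rw [p1 h1, p2 h2] at this; omega }
  refine hP.holds (fun η hη => ?_) hM subset_rfl hM
  obtain ⟨Z, i, hi, hZ, hr, hηi, -⟩ := CohFound.exists_integral_point η
  haveI : IsLocallyNoetherian Z := LocallyOfFiniteType.isLocallyNoetherian i
  subst hηi
  obtain ⟨g, hg, hgen, hkill⟩ := CohFound.exists_cyclic_push_structureModule i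
  let G := (Scheme.Modules.pushforward i).obj (Coh.structureModule Z)
  have hG : Coh.IsCoh G := CohFound.isCoh_push_closedImm i (M1.isCoh_structureModule Z)
  refine ⟨CohFound.HasModel.ofCyclic hPiso G hG ((CohFound.support_push_subset i _).trans hr.le) g hg hgen hkill
    fun hG' => ?_⟩
  letI : Z.Over (Spec (CommRingCat.of k)) := ⟨i ≫ (W ↘ Spec (CommRingCat.of k))⟩
  haveI : IsProper (Z ↘ Spec (CommRingCat.of k)) :=
    inferInstanceAs (IsProper (i ≫ (W ↘ Spec (CommRingCat.of k))))
  have hdZ : topologicalKrullDim Z ≤ (d : WithBot ℕ∞) := by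
    refine le_trans ?_ hdim
    let f : Z → ↥(CohB1.support M) := fun z => ⟨i z, (M1.isClosed_support hM.2).closure_subset_iff.2
      (Set.singleton_subset_iff.2 hη) (hr.le ⟨z, rfl⟩)⟩
    exact (Topology.IsInducing.codRestrict i.isEmbedding.isInducing fun z => (f z).2).topologicalKrullDim_le
  have h0 := hc Z i hi hZ hdZ
  have key : ∀ a : SGA6.Kvb W, chiK k hG' a = chiK k (M1.isCoh_structureModule Z) (PBK5.pullHom i a) := by
    intro a
    induction a using K0Cat.clSub_induction with
    | h0 => simp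
    | hneg b hb => simp [hb]
    | hadd b c hb hc => simp [hb, hc]
    | hcl E hE =>
      change chiK k hG' (cl E) = chiK k (M1.isCoh_structureModule Z) (PBK5.pullHom i (cl E))
      have hE' := M2.isFinLocFree_pullback i hE
      rw [chiK_cl k hG' hE, PBK5.pullHom_cl i hE, chiK_cl k (M1.isCoh_structureModule Z) hE',
        CurveCoh17.euler_iso (M2.tensorComm G E ≪≫ (PBK5.pushPullIso i hE (Coh.structureModule Z)).symm),
        AmpleFin18.euler_push i rfl _ (coh_tensor_vb (CohFound.isCoh_of_isFinLocFree hE')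
          (M2.isFinLocFree_of_isInvertible (PicLoc.isInvertible_structureModule Z))).1]
      exact CurveCoh17.euler_iso (M2.tensorComm _ _)
  rw [key, h0, map_zero]

end Field

variable {X Y : Scheme.{u}} [IsNoetherian X] [IsNoetherian Y] {π : X ⟶ Y} {F : X.Modules}

/-- The rank of the push-forward of a good bundle is the Euler characteristic of a fibre. -/
theorem aug_push_good [IsProper π] [HasInjectiveResolutions X.Modules] (hF : Coh.IsCoh F) (hFf : FlatMod.IsFlatOver π F)
    [ConnectedSpace Y] {KY : Type u} [CommRing KY] [LambdaRing.LambdaOps KY] {PY : LambdaRing.PosStructure KY}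
    {φY : SGA6.Kvb Y →+ KY} (hKY : KRR.IsModel Y KY PY φY) {E : X.Modules} (hE : GoodB π F E) (y : Y)
    : letI : (π.fiber y).Over (Spec (CommRingCat.of (Y.residueField y))) := ⟨π.fiberToSpecResidueField y⟩
    PY.aug (φY (cl ((Scheme.Modules.pushforward π).obj (CohB1.tensorMod F E)))) =
      Curv2.euler (Y.residueField y) (π.fiber y) (CohB1.tensorMod ((Scheme.Modules.pullback (π.fiberι y)).obj F)
        ((Scheme.Modules.pullback (π.fiberι y)).obj E)) := by
  letI : (π.fiber y).Over (Spec (CommRingCat.of (Y.residueField y))) := ⟨π.fiberToSpecResidueField y⟩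
  have hc := hE.cohb1 hF
  haveI : Coh.IsQCoh (CohB1.tensorMod F E) := hc.1
  have hfree := (hE.push hF hFf).1
  obtain ⟨n, hn⟩ : ∃ n, FlatMod.IsFinLocFreeOfRank n ((Scheme.Modules.pushforward π).obj (CohB1.tensorMod F E)) :=
    ⟨_, KModel5.exists_rank y hfree⟩
  obtain ⟨U, hyU, ⟨e⟩⟩ := hn y
  haveI : IsIso (CohBC.bc0 π (Y.fromSpecResidueField y) (π.fiberToSpecResidueField y) (π.fiberι y) (π.fiber_fac y)
      (CohB1.tensorMod F E)) :=
    CBC10.isIso_bc0 (IsPullback.of_hasPullback π (Y.fromSpecResidueField y)) _ fun z => by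
      obtain ⟨V, M, hzV, h1, -⟩ := CBC10.exists_nhd_H1 ((M1.isCoh_iff_isFP _).1 hc)
        (CBC10.isFlatOver_tensor_lf π hFf hE.1) (Y.fromSpecResidueField y z) (hE.2 _ 1 one_pos)
      exact ⟨V, M, hzV, h1⟩
  rw [hKY.aug_cl n _ hn, ← CMReg18.rank_eq_fiberRank _ hyU e,
    ← CurveCoh17.euler_iso (M2.pullTensorIso (π.fiberι y) F E), Curv2.euler, finsum_eq_single _ 0]
  · simp [CohIII.fiberRank]
  · intro p hp
    haveI := hE.2 y p (Nat.pos_of_ne_zero hp)
    simp [Module.finrank_zero_of_subsingleton]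

/-- The rank of the push-forward vanishes above the relative dimension. -/
theorem aug_push_eq_zero [ConnectedSpace X] [ConnectedSpace Y] [HasInjectiveResolutions X.Modules]
    (hπ : RelProj.IsProjective π) (hF : Coh.IsCoh F)
    (hFf : FlatMod.IsFlatOver π F) {d : ℕ}
    (hd : ∀ y : Y, topologicalKrullDim ↥{x : X | x ∈ CohB1.support F ∧ π.base x = y} ≤ d)
    (hAB : Flat π ∨ ∃ H : Y.Modules, CohB1.IsAmple H)
    {KX : Type u} [CommRing KX] [LambdaRing.LambdaOps KX] {PX : LambdaRing.PosStructure KX}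
    {φX : SGA6.Kvb X →+ KX} (hKX : KRR.IsModel X KX PX φX)
    {KY : Type u} [CommRing KY] [LambdaRing.LambdaOps KY] {PY : LambdaRing.PosStructure KY}
    {φY : SGA6.Kvb Y →+ KY} (hKY : KRR.IsModel Y KY PY φY)
    {g : KX →+ KY} (hg : KDet.IsPushF π F φX φY g)
    {x : KX} (hx : x ∈ LambdaRing.gammaFiltration PX (d + 1)) : PY.aug (g x) = 0 := by
  haveI := QuotProj11.isProper_of_isProjective hπ
  obtain ⟨y⟩ := (inferInstance : Nonempty Y)
  let κ : Type u := Y.residueField y
  letI : (π.fiber y).Over (Spec (CommRingCat.of κ)) := ⟨π.fiberToSpecResidueField y⟩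
  haveI : IsProper (π.fiber y ↘ Spec (CommRingCat.of κ)) :=
    inferInstanceAs (IsProper (pullback.snd π (Y.fromSpecResidueField y)))
  have hFy : Coh.IsCoh ((Scheme.Modules.pullback (π.fiberι y)).obj F) := M1.isCoh_pullback _ hF
  obtain ⟨z, rfl⟩ := hKX.bijective.2 x
  have heq : PY.aug (g (φX z)) = chiK κ hFy (PBK5.pullHom (π.fiberι y) z) :=
    good_ext hπ hF hFf hd hAB (a := PY.aug.toAddMonoidHom.comp (g.comp φX))
      (b := (chiK κ hFy).comp (PBK5.pullHom (π.fiberι y)).toAddMonoidHom) (fun E hE => by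
        show PY.aug (g (φX (cl E))) = chiK κ hFy (PBK5.pullHom (π.fiberι y) (cl E))
        rw [push_cl hF hFf hg hE, PBK5.pullHom_cl _ hE.1, chiK_cl κ hFy (M2.isFinLocFree_pullback _ hE.1)]
        exact aug_push_good hF hFf hKY hE y) z
  rw [heq]
  refine chiK_eq_zero κ (d := d) (fun Z i hi hZ hdZ => ?_) hFy ?_
  · obtain ⟨L, hL⟩ := exists_relAmple hπ
    have hA : CohB1.IsAmple ((Scheme.Modules.pullback i).obj ((Scheme.Modules.pullback (π.fiberι y)).obj L)) :=
      Amp.isAmple_pullback_of_isAffineHom _ ((RA.isRelAmple_iff_isAmple (f := π.fiber y ↘ Spec (CommRingCat.of κ))).1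
        (RA.isRelAmple_of_isPullback (IsPullback.of_hasPullback π (Y.fromSpecResidueField y)) hL))
    haveI : IsNoetherian (π.fiber y) := CohFound.isNoetherian_of_isProper (π.fiber y ↘ Spec (CommRingCat.of κ))
    haveI : IsLocallyNoetherian Z := LocallyOfFiniteType.isLocallyNoetherian i
    haveI : CompactSpace Z := QuasiCompact.compactSpace_of_compactSpace i
    haveI : IsNoetherian Z := {}
    obtain ⟨K', j1, j2, P', φ', hK'⟩ := KModel5.exists_model Z
    let ψ := AddEquiv.ofBijective φX hKX.bijective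
    let p : KX →+ K' := φ'.comp ((PBK5.pullHom (i ≫ π.fiberι y)).toAddMonoidHom.comp ψ.symm.toAddMonoidHom)
    have hp : KRR.IsPull (i ≫ π.fiberι y) φX φ' p := fun E hE => by
      show φ' (PBK5.pullHom (i ≫ π.fiberι y) (ψ.symm (φX _))) = _
      rw [show ψ.symm (φX (KRR.cl X E)) = KRR.cl X E from ψ.symm_apply_apply _]
      exact congrArg φ' (PBK5.pullHom_cl _ hE)
    have h := PBK5.map_gammaFiltration (PA := PX) (PB := P') (PBK5.pullRingHom hKX hK' hp)
      (PBK5.pull_lam hKX hK' hp) (PBK5.pull_aug hKX hK' hp) (d + 1) hx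
    rw [PBK5.gammaFiltration_eq_bot hA hdZ hK', AddSubgroup.mem_bot, PBK5.pullRingHom_apply,
      PBK5.isPull_apply hp, PBK5.pullHom_comp] at h
    exact hK'.bijective.1 (h.trans (map_zero φ').symm)
  · rw [M2.support_pullback (π.fiberι y) hF.1 hF.2]
    let T := {x : X | x ∈ CohB1.support F ∧ π.base x = y}
    let g : ↥(π.fiberι y ⁻¹' CohB1.support F) → ↥T := fun z =>
      ⟨π.fiberι y z.1, z.2, ((π.fiberHomeo y) z.1).2⟩
    have hg : Topology.IsInducing g := by
      refine Topology.IsInducing.codRestrict ?_ fun z => (g z).2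
      exact (π.fiberι y).isEmbedding.isInducing.comp Topology.IsInducing.subtypeVal
    exact (hg.topologicalKrullDim_le).trans (hd y)

end Groth.Agent.IntShRes5
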