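import Groth.Prelude.Def_KDet
import Groth.Agent.Lib.IntShRes5.Gen
import Groth.Agent.Lib.Quot18.PullExact
import Groth.Agent.Lib.CMReg18.PushKvb
import Groth.Agent.Lib.CurveCoh17.TensorExact
import Groth.Agent.Lib.Snapper.Twist

/-! Cutting by a regular section. -/

set_option autoImplicit false
set_option linter.style.haveILetI false
set_option backward.isDefEq.respectTransparency false
set_option backward.isDefEq.respectTransparency.types false
set_option maxHeartbeats 800000
set_option synthInstance.maxHeartbeats 100000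

universe u

open CategoryTheory CategoryTheory.Limits AlgebraicGeometry TopologicalSpace Opposite

noncomputable section

namespace Groth.Agent.IntShRes5

open Groth.Agent Groth.Agent.M1 Groth.Agent.M2
open Groth.Agent.ExtFil4 (cl)

attribute [local instance] ExtFil4.kvbRing

variable {X Y : Scheme.{u}} {π : X ⟶ Y} {F : X.Modules}

/-- Goodness for a direct sum gives goodness for a summand. -/
theorem Van.of_retract {F' E : X.Modules} {j : ℕ} (h : Van π F' j E) (i : F ⟶ F') (r : F' ⟶ F) (w : i ≫ r = 𝟙 F) :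
    Van π F j E := fun s p hp => by
  letI : (π.fiber s).Over (Spec (CommRingCat.of (Y.residueField s))) := ⟨π.fiberToSpecResidueField s⟩
  let G := M2.tensorR E ⋙ Scheme.Modules.pullback (π.fiberι s)
  haveI : Subsingleton (Coh.HH (π.fiber s) (G.obj F') p) := h s p hp
  have hinv : Function.LeftInverse (CurveCoh17.hmap (Y.residueField s) (G.map r) p)
      (CurveCoh17.hmap (Y.residueField s) (G.map i) p) := fun x => by
    rw [← CurveCoh17.hmap_comp, ← G.map_comp, w, G.map_id, CurveCoh17.hmap_id]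
  exact hinv.injective.subsingleton

/-- Bundles are flat at the stalks. -/
theorem flat_stalk_vb {E : X.Modules} (hE : FlatMod.IsFinLocFree E) (x : X) :
    Module.Flat (X.presheaf.stalk x) (E.presheaf.stalk x) := by
  obtain ⟨U, n, hxU, ⟨e⟩⟩ := hE x
  haveI := M1.free_stalk_of_freeMod (CohFound.isCoh_of_isFinLocFree hE).1 e hxU
  infer_instance

/-- The support of a sum with a twist has the same fibre dimension. -/
theorem dim_biprod {M₀ : X.Modules} (hM₀ : PicF.IsInvertible M₀) {d : ℕ}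
    (hd : ∀ y : Y, topologicalKrullDim ↥{x : X | x ∈ CohB1.support F ∧ π.base x = y} ≤ d) (y : Y) :
    topologicalKrullDim ↥{x : X | x ∈ CohB1.support (F ⊞ CohB1.tensorMod F M₀) ∧ π.base x = y} ≤ d := by
  let F₂ := F ⊞ CohB1.tensorMod F M₀
  refine le_trans ((Topology.IsEmbedding.inclusion (?_ : _ ⊆ {x : X | x ∈ CohB1.support F ∧ π.base x = y})).isInducing.topologicalKrullDim_le) (hd y)
  rintro z ⟨hz, hzy⟩
  refine ⟨fun hsub => hz ?_, hzy⟩
  haveI : Subsingleton (F.presheaf.stalk z) := hsub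
  haveI : Subsingleton ((CohB1.tensorMod F M₀).presheaf.stalk z) := by
    by_contra h
    exact (Snapper.support_tensor_subset F M₀ (show z ∈ CohB1.support (CohB1.tensorMod F M₀) from h)) hsub
  refine subsingleton_of_forall_eq 0 fun t => ?_
  have ht : t = ((M1.stalkAb z).map (biprod.fst ≫ biprod.inl + biprod.snd ≫ biprod.inr : F₂ ⟶ F₂)) t := by
    rw [biprod.total, (M1.stalkAb z).map_id]; rfl
  rw [ht, Functor.map_add, Functor.map_comp, Functor.map_comp]
  show ((M1.stalkAb z).map biprod.inl) ((M1.stalkAb z).map biprod.fst t) +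
    ((M1.stalkAb z).map biprod.inr) ((M1.stalkAb z).map biprod.snd t) = 0
  rw [Subsingleton.elim (α := F.presheaf.stalk z) ((M1.stalkAb z).map biprod.fst t) 0,
    Subsingleton.elim (α := (CohB1.tensorMod F M₀).presheaf.stalk z) ((M1.stalkAb z).map biprod.snd t) 0]
  exact (congrArg₂ (· + ·) (map_zero _) (map_zero _)).trans (add_zero 0)

variable [IsNoetherian X] [IsNoetherian Y]

/-- The sequence of a cut, twisted by a good bundle. -/
theorem good_cut {S : ShortComplex X.Modules} (hS : S.ShortExact) (hc1 : Coh.IsCoh S.X₁) (hc2 : Coh.IsCoh S.X₂)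
    (hB : Coh.IsCoh S.X₃) (hf1 : FlatMod.IsFlatOver π S.X₁) (hBf : FlatMod.IsFlatOver π S.X₃) (i : S.X₂ ≅ F)
    (hF : Coh.IsCoh F) (hFf : FlatMod.IsFlatOver π F) [IsProper π] {E : X.Modules} (h0 : GoodB π F E)
    (h1 : GoodB π S.X₁ E) :
    GoodB π S.X₃ E ∧ cl ((Scheme.Modules.pushforward π).obj (CohB1.tensorMod F E)) =
      cl ((Scheme.Modules.pushforward π).obj (CohB1.tensorMod S.X₁ E)) +
        cl ((Scheme.Modules.pushforward π).obj (CohB1.tensorMod S.X₃ E)) := by
  have hT : (S.map (M2.tensorR E)).ShortExact := CurveCoh17.shortExact_tensorR hS E (flat_stalk_vb h0.1)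
  let e2 : CohB1.tensorMod S.X₂ E ≅ CohB1.tensorMod F E := M2.tensorIso i (Iso.refl E)
  have h2 : GoodB π S.X₃ E := ⟨h0.1, fun t p hp => by
    letI : (π.fiber t).Over (Spec (CommRingCat.of (Y.residueField t))) := ⟨π.fiberToSpecResidueField t⟩
    have hf : ((S.map (M2.tensorR E)).map (Scheme.Modules.pullback (π.fiberι t))).ShortExact :=
      Quot18.shortExact_pullback_relFlat (IsPullback.of_hasPullback π (Y.fromSpecResidueField t)) hT
        (CBC10.isFlatOver_tensor_lf π hBf h0.1)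
    refine CMReg18.van₃ (Y.residueField t) hf ?_ (h1.2 t (p + 1) (by omega))
    exact CMReg18.van_iso (Y.residueField t)
      ((Scheme.Modules.pullback (π.fiberι t)).mapIso e2.symm) (h0.2 t p hp)⟩
  have hpush : ((S.map (M2.tensorR E)).map (Scheme.Modules.pushforward π)).ShortExact :=
    CMReg18.shortExact_push_of_isZero π hT (h1.cohb1 hc1).1 ((h1.push hc1 hf1).2 1 le_rfl)
  have v2 : FlatMod.IsFinLocFree ((Scheme.Modules.pushforward π).obj (CohB1.tensorMod S.X₂ E)) :=
    M2.isFinLocFree_of_iso ((Scheme.Modules.pushforward π).mapIso e2.symm) (h0.push hF hFf).1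
  refine ⟨h2, (PBK5.cl_congr ((Scheme.Modules.pushforward π).mapIso e2.symm) (h0.push hF hFf).1).trans ?_⟩
  exact PBK5.cl_ses _ hpush (h1.push hc1 hf1).1 v2 (h2.push hB hBf).1

set_option maxHeartbeats 3200000 in
/-- The push-forward twisted by the cokernel of a regular section. -/
theorem push_cut_map [HasInjectiveResolutions X.Modules] (hπ : RelProj.IsProjective π) (hF : Coh.IsCoh F)
    (hFf : FlatMod.IsFlatOver π F) {d : ℕ}
    (hd : ∀ y : Y, topologicalKrullDim ↥{x : X | x ∈ CohB1.support F ∧ π.base x = y} ≤ d)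
    (hAB : Flat π ∨ ∃ H : Y.Modules, CohB1.IsAmple H)
    {KX : Type u} [CommRing KX] [LambdaRing.LambdaOps KX] {PX : LambdaRing.PosStructure KX}
    {φX : SGA6.Kvb X →+ KX} (hKX : KRR.IsModel X KX PX φX)
    {KY : Type u} [CommRing KY] [LambdaRing.LambdaOps KY] {PY : LambdaRing.PosStructure KY}
    {φY : SGA6.Kvb Y →+ KY} (hKY : KRR.IsModel Y KY PY φY)
    {g : KX →+ KY} (hg : KDet.IsPushF π F φX φY g)
    {M₀ : X.Modules} (hM₀ : PicF.IsInvertible M₀)
    (σ : CohB1.tensorMod F M₀ ⟶ CohB1.tensorMod F (Coh.structureModule X)) [Mono σ]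
    (hBf : FlatMod.IsFlatOver π (cokernel σ))
    {g₁ : KX →+ KY} (hg₁ : KDet.IsPushF π (cokernel σ) φX φY g₁)
    (x : KX) : g ((1 - φX (KRR.cl X M₀)) * x) = g₁ x := by
  haveI := QuotProj11.isProper_of_isProjective hπ
  have hM := M2.isFinLocFree_of_isInvertible hM₀
  let B := cokernel σ
  let S : ShortComplex X.Modules := ShortComplex.mk σ (cokernel.π σ) (cokernel.condition σ)
  have hS : S.ShortExact := { exact := ShortComplex.exact_cokernel σ }
  have hc1 : Coh.IsCoh (CohB1.tensorMod F M₀) := CohFound.isCoh_tensor hF (CohFound.isCoh_of_isFinLocFree hM)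
  have hc2 : Coh.IsCoh (CohB1.tensorMod F (Coh.structureModule X)) :=
    CohFound.isCoh_tensor hF (M1.isCoh_structureModule X)
  have hB : Coh.IsCoh B := M1.isCoh_cokernel hc1.1 hc2 σ
  let F₂ := F ⊞ CohB1.tensorMod F M₀
  have hf1 := CBC10.isFlatOver_tensor_lf π hFf hM
  have hF₂ : Coh.IsCoh F₂ := M1.isCoh_biprod hF hc1
  have hF₂f : FlatMod.IsFlatOver π F₂ := fun z =>
    (QF.isFlatOverAt_iff_of_shortExact π _ (ShortComplex.Splitting.ofHasBinaryBiproduct F (CohB1.tensorMod F M₀)).shortExact z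
      (hf1 z)).2 (hFf z)
  have hd₂ := dim_biprod hM₀ hd
  obtain ⟨z, rfl⟩ := hKX.bijective.2 x
  rw [← PBK5.modelHom_apply hKX, ← PBK5.modelHom_apply hKX, ← (PBK5.modelHom hKX).map_one, ← map_sub, ← map_mul,
    PBK5.modelHom_apply hKX, PBK5.modelHom_apply hKX]
  refine good_ext hπ hF₂ hF₂f hd₂ hAB (a := g.comp (φX.comp (AddMonoidHom.mulLeft (1 - cl M₀)))) (b := g₁.comp φX)
    (fun E hE => ?_) z
  have h0 : GoodB π F E := ⟨hE.1, hE.2.of_retract biprod.inl biprod.fst biprod.inl_fst⟩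
  have h1 : GoodB π (CohB1.tensorMod F M₀) E := ⟨hE.1, hE.2.of_retract biprod.inr biprod.snd biprod.inr_snd⟩
  have h1' : GoodB π F (CohB1.tensorMod M₀ E) := ⟨M2.isFinLocFree_tensor hM hE.1, fun t p hp => by
    letI : (π.fiber t).Over (Spec (CommRingCat.of (Y.residueField t))) := ⟨π.fiberToSpecResidueField t⟩
    exact CMReg18.van_iso (Y.residueField t)
      ((Scheme.Modules.pullback (π.fiberι t)).mapIso (M2.tensorAssoc F M₀ E)) (h1.2 t p hp)⟩
  obtain ⟨h2, key⟩ := good_cut hS hc1 hc2 hB hf1 hBf (M2.tensorRUnit F) hF hFf h0 h1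
  show g (φX ((1 - cl M₀) * cl E)) = g₁ (φX (cl E))
  rw [sub_mul, one_mul, map_sub, map_sub, PBK5.cl_mul hM hE.1, push_cl hF hFf hg h0, push_cl hF hFf hg h1',
    push_cl hB hBf hg₁ h2, key,
    PBK5.cl_congr ((Scheme.Modules.pushforward π).mapIso (M2.tensorAssoc F M₀ E).symm) (h1'.push hF hFf).1,
    map_add, add_sub_cancel_left]

set_option maxHeartbeats 6400000 in
/-- The form with the bifunctor. -/
theorem push_cut [HasInjectiveResolutions X.Modules] (hπ : RelProj.IsProjective π) (hF : Coh.IsCoh F)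
    (hFf : FlatMod.IsFlatOver π F) {d : ℕ}
    (hd : ∀ y : Y, topologicalKrullDim ↥{x : X | x ∈ CohB1.support F ∧ π.base x = y} ≤ d)
    (hAB : Flat π ∨ ∃ H : Y.Modules, CohB1.IsAmple H)
    {KX : Type u} [CommRing KX] [LambdaRing.LambdaOps KX] {PX : LambdaRing.PosStructure KX}
    {φX : SGA6.Kvb X →+ KX} (hKX : KRR.IsModel X KX PX φX)
    {KY : Type u} [CommRing KY] [LambdaRing.LambdaOps KY] {PY : LambdaRing.PosStructure KY}
    {φY : SGA6.Kvb Y →+ KY} (hKY : KRR.IsModel Y KY PY φY)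
    {g : KX →+ KY} (hg : KDet.IsPushF π F φX φY g)
    {M₀ : X.Modules} (hM₀ : PicF.IsInvertible M₀) (s : M₀ ⟶ Coh.structureModule X)
    (hreg : Mono (((DCoh.tensorBi (X := X)).obj F).map s))
    (hBf : FlatMod.IsFlatOver π (cokernel (((DCoh.tensorBi (X := X)).obj F).map s)))
    {g₁ : KX →+ KY} (hg₁ : KDet.IsPushF π (cokernel (((DCoh.tensorBi (X := X)).obj F).map s)) φX φY g₁)
    (x : KX) : g ((1 - φX (KRR.cl X M₀)) * x) = g₁ x :=
  push_cut_map (σ := ((DCoh.tensorBi (X := X)).obj F).map s) (g₁ := g₁) hπ hF hFf hd hAB hKX hKY hg hM₀ hBf hg₁ x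

end Groth.Agent.IntShRes5
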