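import Groth.Prelude.Def_KDet
import Groth.Agent.Lib.IntShRes5.Gen
import Groth.Agent.Lib.TensorMod.Invertible
import Groth.Agent.Lib.KModel5.Main
import Groth.Agent.Lib.Wedge2.Top
import Groth.Agent.Lib.KoszShH13.TwistMain

/-! Determinants: twists by a line and pull-backs. -/

set_option autoImplicit false
set_option linter.style.haveILetI false
set_option backward.isDefEq.respectTransparency false
set_option backward.isDefEq.respectTransparency.types false
set_option maxHeartbeats 800000

universe u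

open CategoryTheory CategoryTheory.Limits AlgebraicGeometry TopologicalSpace Opposite

noncomputable section

namespace Groth.Agent.IntShRes5

open Groth.Agent
open Groth.Agent.ExtFil4 (cl)

attribute [local instance] ExtFil4.kvbRing

variable {Y : Scheme.{u}} [ConnectedSpace Y] {K : Type u} [CommRing K] [LambdaRing.LambdaOps K]
  {P : LambdaRing.PosStructure K} {φ : SGA6.Kvb Y →+ K} [PicGrp.Law Y] {dt : K →+ Additive (PicLoc.PicSet Y)}

/-- A bundle on a connected scheme has a rank and a determinant. -/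
theorem exists_det {E : Y.Modules} (hE : FlatMod.IsFinLocFree E) :
    ∃ (n : ℕ) (D : Y.Modules), FlatMod.IsFinLocFreeOfRank n E ∧ PicF.IsInvertible D ∧ ExtPow.IsExtPow n E D := by
  obtain ⟨x₀⟩ := (inferInstance : Nonempty Y)
  have h := KModel5.exists_rank x₀ hE
  obtain ⟨D, -, hD⟩ := KModel5.hasExt Y (KModel5.rk x₀ E) E hE
  exact ⟨_, D, h, Wedge2.isInvertible_top h hD, hD⟩

/-- The class of a tensor product, for any group law. -/
theorem cls_tensor_pow {L M : Y.Modules} (hL : PicF.IsInvertible L) (hM : PicF.IsInvertible M) (n : ℕ) :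
    PicGrp.cls (CohB1.tensorMod L (CohB1.tensorPow M n)) (M2.isInvertible_tensor hL (M2.isInvertible_tensorPow hM n)) =
      PicGrp.cls L hL * PicGrp.cls M hM ^ n :=
  Subtype.ext (by rw [PicGrp.mul_val, PicGrp.cls_pow_val, PicGrp.cls_val, PicGrp.cls_val, PicGrp.mulCl_cl])

/-- The determinant of a twist by a line. -/
theorem det_mul_line (hK : KRR.IsModel Y K P φ) (hdt : KDet.IsDet φ dt) {M : Y.Modules}
    (hM : PicF.IsInvertible M) (a : SGA6.Kvb Y) :
    dt (φ a * φ (cl M)) = dt (φ a) + P.aug (φ a) • Additive.ofMul (PicGrp.cls M hM) := by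
  induction a using K0Cat.clSub_induction with
  | h0 => simp
  | hneg b hb => rw [map_neg, neg_mul, map_neg, map_neg, hb, map_neg, neg_smul]; abel
  | hadd b c hb hc => rw [map_add, add_mul, map_add, map_add, hb, hc, map_add, add_smul]; abel
  | hcl E hE =>
    obtain ⟨n, D, hn, hD, hDE⟩ := exists_det hE
    have hM1 := (M2.isInvertible_iff_isFinLocFreeOfRank_one M).1 hM
    have hEM : FlatMod.IsFinLocFreeOfRank n (CohB1.tensorMod E M) := by
      simpa using M2.isFinLocFreeOfRank_tensor hn hM1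
    obtain ⟨D', -, hD'⟩ := KModel5.hasExt Y n _ (M2.isFinLocFree_of_ofRank hEM)
    obtain ⟨e⟩ := KoszShH13.extPow_twist hM n hD' hDE
    have hD'i := Wedge2.isInvertible_top hEM hD'
    change dt (φ (cl E) * φ (cl M)) = dt (φ (cl E)) + P.aug (φ (cl E)) • Additive.ofMul (PicGrp.cls M hM)
    rw [show φ (cl E) * φ (cl M) = φ (cl (CohB1.tensorMod E M)) from
      hK.map_mul E M hE (M2.isFinLocFree_of_isInvertible hM),
      hdt n _ D' hD'i hEM hD', hdt n E D hD hn hDE, hK.aug_cl n E hn,
      (PicGrp.cls_eq_cls_iff hD'i (M2.isInvertible_tensor hD (M2.isInvertible_tensorPow hM n))).2 ⟨e⟩,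
      cls_tensor_pow hD hM n, ofMul_mul, ofMul_pow, natCast_zsmul]

/-- The determinant commutes with pull-back. -/
theorem det_pullHom (hdt : KDet.IsDet φ dt) {Y' : Scheme.{u}} [ConnectedSpace Y'] {K' : Type u} [CommRing K']
    {φ' : SGA6.Kvb Y' →+ K'} [PicGrp.Law Y'] {dt' : K' →+ Additive (PicLoc.PicSet Y')} (hdt' : KDet.IsDet φ' dt')
    (h : Y' ⟶ Y) (hmul : PicGrp.PullMul h) (a : SGA6.Kvb Y) :
    Additive.ofMul (PicGrp.pullHom h hmul (Additive.toMul (dt (φ a)))) = dt' (φ' (PBK5.pullHom h a)) := by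
  induction a using K0Cat.clSub_induction with
  | h0 => simp
  | hneg b hb => simp only [map_neg, toMul_neg, map_inv, ofMul_inv, hb]
  | hadd b c hb hc => simp only [map_add, toMul_add, map_mul, ofMul_mul, hb, hc]
  | hcl E hE =>
    obtain ⟨n, D, hn, hD, hDE⟩ := exists_det hE
    change Additive.ofMul (PicGrp.pullHom h hmul (Additive.toMul (dt (φ (cl E))))) = dt' (φ' (PBK5.pullHom h (cl E)))
    rw [hdt n E D hD hn hDE, PBK5.pullHom_cl h hE, hdt' n _ _ (PicLoc.isInvertible_pullback h hD)
      (M2.isFinLocFreeOfRank_pullback h hn)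
      (Wedge2.isExtPow_pullback' h (M1.isFP_isQCoh (M1.isFP_of_isFinLocFree hE)) hDE), toMul_ofMul]
    exact congrArg Additive.ofMul (PicGrp.pullHom_cls h hmul D hD)

end Groth.Agent.IntShRes5
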