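import Groth.Agent.Lib.IntShRes5.Aug
import Groth.Agent.Lib.IntShRes5.Det
import Groth.Agent.Lib.PBK5.Segre
import Groth.Agent.Lib.Lambda.Inv
import Groth.Agent.Lib.EnriquesSeveri11.DualSeq

/-! The alternating first moment of the exterior powers of a dual bundle. -/

set_option autoImplicit false
set_option linter.style.haveILetI false
set_option backward.isDefEq.respectTransparency false
set_option backward.isDefEq.respectTransparency.types false
set_option maxHeartbeats 800000
set_option synthInstance.maxHeartbeats 100000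

universe v u

open CategoryTheory CategoryTheory.Limits AlgebraicGeometry TopologicalSpace Opposite LambdaRing

noncomputable section

namespace Groth.Agent.IntShRes5

open Groth.Agent
open Groth.Agent.ExtFil4 (cl)

attribute [local instance] ExtFil4.kvbRing

section Algebra

variable {R : Type v} [CommRing R]

/-- The first moment of `∏ (1 - w)`. -/
theorem moment_eq {ι : Type*} [DecidableEq ι] (w : ι → R) (s : Finset ι) :
    ∑ t ∈ s.powerset, (-1 : R) ^ t.card * (t.card : R) * ∏ i ∈ t, w i =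
      -∑ a ∈ s, w a * ∏ k ∈ s.erase a, (1 - w k) := by
  induction s using Finset.induction with
  | empty => simp
  | @insert b s hb ih =>
    have hP : ∑ t ∈ s.powerset, (-1 : R) ^ t.card * ∏ i ∈ t, w i = ∏ k ∈ s, (1 - w k) := by
      rw [show ∏ k ∈ s, (1 - w k) = ∏ k ∈ s, (1 + -w k) by simp [sub_eq_add_neg], Finset.prod_one_add]
      exact Finset.sum_congr rfl fun t _ => (Finset.prod_neg (s := t) (f := w)).symm
    have h2 : ∀ t ∈ s.powerset, (-1 : R) ^ (insert b t).card * ((insert b t).card : R) * ∏ i ∈ insert b t, w i =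
        -(w b * ((-1 : R) ^ t.card * (t.card : R) * ∏ i ∈ t, w i)) - w b * ((-1 : R) ^ t.card * ∏ i ∈ t, w i) := by
      intro t ht
      have hbt : b ∉ t := fun h => hb (Finset.mem_powerset.1 ht h)
      rw [Finset.card_insert_of_notMem hbt, Finset.prod_insert hbt, pow_succ]
      push_cast
      ring
    have h3 : ∑ a ∈ s, w a * ∏ k ∈ (insert b s).erase a, (1 - w k) =
        (1 - w b) * ∑ a ∈ s, w a * ∏ k ∈ s.erase a, (1 - w k) := by
      rw [Finset.mul_sum]
      refine Finset.sum_congr rfl fun a ha => ?_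
      have hab : b ≠ a := fun h => hb (by rw [h]; exact ha)
      rw [Finset.erase_insert_of_ne hab, Finset.prod_insert (fun h => hb (Finset.mem_of_mem_erase h))]
      ring
    rw [Finset.sum_powerset_insert hb, Finset.sum_congr rfl h2, Finset.sum_sub_distrib, Finset.sum_neg_distrib,
      ← Finset.mul_sum, ← Finset.mul_sum, ih, hP, Finset.sum_insert hb, Finset.erase_insert hb, h3]
    ring

/-- The two top classes agree up to products of more factors. -/
theorem top_classes_mem {n : ℕ} (u w : Fin (n + 1) → R) (J : Ideal R) (hu : ∀ a, u a - 1 ∈ J)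
    (huw : ∀ a, u a * w a = 1) :
    (∑ t ∈ Finset.univ.powersetCard n, ∏ i ∈ t, (u i - 1)) +
      ∑ t ∈ (Finset.univ : Finset (Fin (n + 1))).powerset, (-1 : R) ^ t.card * (t.card : R) * ∏ i ∈ t, w i
        ∈ J ^ (n + 1) := by
  classical
  have hc : ∑ t ∈ Finset.univ.powersetCard n, ∏ i ∈ t, (u i - 1) =
      ∑ a, ∏ i ∈ Finset.univ.erase a, (u i - 1) := by
    symm
    refine Finset.sum_bij (fun a _ => Finset.univ.erase a) (fun a _ => ?_) (fun a _ b _ h => ?_) (fun t ht => ?_)
      (fun a _ => rfl)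
    · simp [Finset.mem_powersetCard]
    · by_contra hne
      have : a ∈ Finset.univ.erase b := Finset.mem_erase.2 ⟨hne, Finset.mem_univ _⟩
      rw [← h] at this
      exact (Finset.mem_erase.1 this).1 rfl
    · obtain ⟨-, ht⟩ := Finset.mem_powersetCard.1 ht
      obtain ⟨a, ha⟩ : ∃ a, a ∉ t := by
        by_contra h
        push Not at h
        have : t = Finset.univ := Finset.eq_univ_iff_forall.2 h
        rw [this] at ht; simp at ht
      refine ⟨a, Finset.mem_univ _, (Finset.eq_of_subset_of_card_le (fun i hi => Finset.mem_erase.2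
        ⟨fun h => by subst h; exact ha hi, Finset.mem_univ _⟩) ?_).symm⟩
      simp [ht]
  have hw : ∀ a, 1 - w a ∈ J := fun a => by
    rw [show 1 - w a = w a * (u a - 1) by rw [mul_sub, mul_comm, huw, mul_one]]
    exact Ideal.mul_mem_left _ _ (hu a)
  rw [hc, moment_eq, ← sub_eq_add_neg, ← Finset.sum_sub_distrib]
  refine Ideal.sum_mem _ fun a _ => ?_
  have hp : ∏ i ∈ Finset.univ.erase a, (u i - 1) =
      (∏ i ∈ Finset.univ.erase a, u i) * ∏ i ∈ Finset.univ.erase a, (1 - w i) := by
    rw [← Finset.prod_mul_distrib]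
    exact Finset.prod_congr rfl fun i _ => by rw [mul_sub, huw, mul_one]
  rw [hp, ← sub_mul, pow_succ']
  refine Ideal.mul_mem_mul ?_ ?_
  · rw [show ∏ i ∈ Finset.univ.erase a, u i - w a = (∏ i ∈ Finset.univ.erase a, u i - 1) + (1 - w a) by ring]
    refine add_mem ?_ (hw a)
    refine Finset.prod_induction _ (fun x => x - 1 ∈ J) (fun x y hx hy => ?_) (by simp) fun i _ => hu i
    rw [show x * y - 1 = (x - 1) * y + (y - 1) by ring]
    exact add_mem (Ideal.mul_mem_right _ _ hx) hy
  · have := Ideal.prod_mem_prod (s := Finset.univ.erase a) (I := fun _ => J) fun i _ => hw i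
    rwa [Finset.prod_const, Finset.card_erase_of_mem (Finset.mem_univ a), Finset.card_univ, Fintype.card_fin,
      Nat.add_sub_cancel] at this

end Algebra

section Dual

variable {X : Scheme.{u}}

/-- The class of the dual bundle. -/
def dualK (X : Scheme.{u}) : SGA6.Kvb X →+ SGA6.Kvb X :=
  K0Cat.liftSub (fun E : Subtype (KRR.vbP X) => cl (CohMop.dual E.1)) fun S h₁ h₂ h₃ hS => by
    have h := PBK5.cl_ses _ (ES11.shortExact_dual hS h₃) (CohMop.isFinLocFree_dual h₃)
      (CohMop.isFinLocFree_dual h₂) (CohMop.isFinLocFree_dual h₁)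
    exact h.trans (add_comm _ _)

theorem dualK_cl {E : X.Modules} (hE : FlatMod.IsFinLocFree E) : dualK X (cl E) = cl (CohMop.dual E) :=
  K0Cat.liftSub_clSub _ _ hE

end Dual

/-- On a scheme of small dimension the top class and the first moment cancel. -/
theorem pullHom_moment_eq_zero {X Z : Scheme.{u}} [ConnectedSpace Z] [IsNoetherian Z] [IsNoetherian X] {j : Z ⟶ X}
    {A : Z.Modules} (hA : CohB1.IsAmple A) {d : ℕ} (hd : topologicalKrullDim Z ≤ (d : WithBot ℕ∞))
    {KX : Type u} [CommRing KX] [LambdaOps KX] {PX : PosStructure KX} {φX : SGA6.Kvb X →+ KX}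
    (hKX : KRR.IsModel X KX PX φX) {E : X.Modules} (hE : FlatMod.IsFinLocFreeOfRank (d + 1) E)
    {L : ℕ → X.Modules} (hL : ∀ i, FlatMod.IsFinLocFree (L i))
    (hLE : ∀ i, ExtPow.IsExtPow i (RefHull.dual E) (L i))
    {zg : SGA6.Kvb X} (hzg : φX zg = gamma d (φX (KRR.cl X E) - ((d + 1 : ℕ) : KX))) :
    PBK5.pullHom j (zg + ∑ i ∈ Finset.range (d + 1 + 1), ((-1 : ℤ) ^ i * (i : ℤ)) • cl (L i)) = 0 := by
  classical
  obtain ⟨S, hS⟩ := PBK5.exists_topSplit hA d hd 1 (fun _ => (Scheme.Modules.pullback j).obj E)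
    fun _ => M2.isFinLocFree_pullback j (M2.isFinLocFree_of_ofRank hE)
  obtain ⟨m, M, hM, hsum⟩ := hS 0
  refine S.inj _ ?_
  rw [← PBK5.pullHom_comp]
  let h := S.f ≫ j
  haveI := S.conn
  haveI := S.noeth
  obtain ⟨K', j1, j2, P', φ', hK'⟩ := KModel5.exists_model S.Y
  let ψ := AddEquiv.ofBijective φX hKX.bijective
  let p : KX →+ K' := φ'.comp ((PBK5.pullHom h).toAddMonoidHom.comp ψ.symm.toAddMonoidHom)
  have hp : KRR.IsPull h φX φ' p := fun B hB => by
    show φ' (PBK5.pullHom h (ψ.symm (φX _))) = _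
    rw [show ψ.symm (φX (KRR.cl X B)) = KRR.cl X B from ψ.symm_apply_apply _]
    exact congrArg φ' (PBK5.pullHom_cl _ hB)
  let f := PBK5.pullRingHom hKX hK' hp
  let F := PBK5.modelHom hK'
  have hEl := M2.isFinLocFree_of_ofRank hE
  have hh : PBK5.pullHom h (cl E) = ∑ a, cl (M a) := by
    rw [show h = S.f ≫ j from rfl, PBK5.pullHom_comp, PBK5.pullHom_cl j hEl]; exact hsum
  have hu : ∀ a, P'.IsLine (φ' (KRR.cl S.Y (M a))) := fun a => PBK5.isLine_cl hK' (hM a)
  have hE' : φ' (cl ((Scheme.Modules.pullback h).obj E)) = ∑ a, φ' (KRR.cl S.Y (M a)) := by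
    rw [← PBK5.pullHom_cl h hEl, hh, map_sum]
  obtain rfl : m = d + 1 := by
    have := congrArg P'.aug hE'
    rw [hK'.aug_cl _ _ (M2.isFinLocFreeOfRank_pullback h hE), map_sum,
      Finset.sum_congr rfl (fun a _ => (hu a).2), Finset.sum_const, Finset.card_univ, Fintype.card_fin] at this
    simp only [nsmul_eq_mul, mul_one, Nat.cast_inj] at this
    exact this.symm
  choose N hN hMN using fun a => M2.exists_inverse (hM a)
  have hdl : FlatMod.IsFinLocFree (RefHull.dual E) := LefFEt11.isFinLocFree_dual hEl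
  have hw : ∀ a, P'.IsLine (φ' (KRR.cl S.Y (N a))) := fun a => PBK5.isLine_cl hK' (hN a)
  have hD : φ' (cl ((Scheme.Modules.pullback h).obj (RefHull.dual E))) = ∑ a, φ' (KRR.cl S.Y (N a)) := by
    obtain ⟨e⟩ := PBK5.Segre.nonempty_pullback_dual (π := h) hEl
    rw [PBK5.cl_congr e (M2.isFinLocFree_pullback h hdl), ← dualK_cl (M2.isFinLocFree_pullback h hEl),
      ← PBK5.pullHom_cl h hEl, hh, map_sum, map_sum]
    refine Finset.sum_congr rfl fun a _ => ?_
    rw [dualK_cl (M2.isFinLocFree_of_isInvertible (hM a))]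
    obtain ⟨i⟩ := ES11.nonempty_dual_iso_of_inverse (hM a) (hMN a).some
    exact congrArg φ' (PBK5.cl_congr i (CohMop.isFinLocFree_dual (M2.isFinLocFree_of_isInvertible (hM a))))
  have hFg : F (PBK5.pullHom h zg) = ∑ t ∈ Finset.univ.powersetCard d, ∏ a ∈ t, F (cl (M a) - 1) := by
    show φ' (PBK5.pullHom h zg) = _
    rw [← PBK5.isPull_apply hp, hzg, ← PBK5.pullRingHom_apply hKX hK' hp,
      Lambda.gamma_map f (fun j x => PBK5.pull_lam hKX hK' hp j x), map_sub, map_natCast,
      PBK5.pullRingHom_apply, hp E hEl, show KRR.cl S.Y ((Scheme.Modules.pullback h).obj E) =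
        cl ((Scheme.Modules.pullback h).obj E) from rfl, hE',
      show (∑ a, φ' (KRR.cl S.Y (M a))) - ((d + 1 : ℕ) : K') = ∑ a, (φ' (KRR.cl S.Y (M a)) - 1) by
        simp [Finset.sum_sub_distrib],
      Lambda.gamma_sum_sub_card (Lambda.pos_lam_one P') Finset.univ _ (fun a _ j hj => Lambda.line_lam P' (hu a) j hj)]
    exact Finset.sum_congr rfl fun t _ => Finset.prod_congr rfl fun a _ => by
      rw [map_sub, map_one]; rfl
  have hFL : ∀ i, F (PBK5.pullHom h (cl (L i))) =
      ∑ t ∈ (Finset.univ : Finset (Fin (d + 1))).powersetCard i, ∏ a ∈ t, F (cl (N a)) := by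
    intro i
    show φ' (PBK5.pullHom h (cl (L i))) = _
    rw [PBK5.pullHom_cl h (hL i)]
    refine (hK'.map_lam i _ _ (M2.isFinLocFree_pullback h hdl) (M2.isFinLocFree_pullback h (hL i))
      (Wedge2.isExtPow_pullback' h (M1.isFP_isQCoh (M1.isFP_of_isFinLocFree hdl)) (hLE i))).symm.trans ?_
    rw [show KRR.cl S.Y ((Scheme.Modules.pullback h).obj (RefHull.dual E)) =
      cl ((Scheme.Modules.pullback h).obj (RefHull.dual E)) from rfl, hD, Lambda.lam_sum_lines P' _ hw]
    rfl
  have hmem := top_classes_mem (fun a => cl (M a)) (fun a => cl (N a)) (PBK5.lineIdeal S.Y)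
    (fun a => PBK5.cl_sub_one_mem (hM a)) (fun a => by
      obtain ⟨e⟩ := hMN a
      exact (PBK5.cl_mul (M2.isFinLocFree_of_isInvertible (hM a)) (M2.isFinLocFree_of_isInvertible (hN a))).trans
        ((PBK5.cl_congr e (M2.isFinLocFree_tensor (M2.isFinLocFree_of_isInvertible (hM a))
          (M2.isFinLocFree_of_isInvertible (hN a)))).trans PBK5.cl_one))
  have heq : PBK5.pullHom h (zg + ∑ i ∈ Finset.range (d + 1 + 1), ((-1 : ℤ) ^ i * (i : ℤ)) • cl (L i)) =
      (∑ t ∈ (Finset.univ : Finset (Fin (d + 1))).powersetCard d, ∏ a ∈ t, (cl (M a) - 1)) +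
      ∑ t ∈ (Finset.univ : Finset (Fin (d + 1))).powerset,
        (-1 : SGA6.Kvb S.Y) ^ t.card * (t.card : SGA6.Kvb S.Y) * ∏ a ∈ t, cl (N a) := by
    refine hK'.bijective.1 ?_
    show F _ = F _
    simp only [map_add, map_sum, map_zsmul, map_mul, map_pow, map_neg, map_one, map_natCast, map_prod]
    rw [hFg, Finset.powerset_card_disjiUnion, Finset.sum_disjiUnion, Finset.card_univ, Fintype.card_fin]
    refine congrArg₂ (· + ·) (by simp only [map_sub, map_one]) (Finset.sum_congr rfl fun i _ => ?_)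
    rw [hFL, Finset.smul_sum]
    refine Finset.sum_congr rfl fun t ht => ?_
    rw [(Finset.mem_powersetCard.1 ht).2, zsmul_eq_mul]
    push_cast
    ring
  have hD' : d + S.D < d + 1 + S.D := by omega
  have hb := PBK5.lineIdeal_pow_eq_bot S.ample S.dim hD'
  have h0 := Ideal.mul_mem_mul hmem S.mem
  rw [← pow_add, hb, Ideal.mem_bot] at h0
  rw [show S.f ≫ j = h from rfl, heq, h0]

/-- A class vanishing on small closed subschemes of the fibres has rank zero direct image. -/
theorem aug_push_eq_zero' {X Y : Scheme.{u}} [IsNoetherian X] [IsNoetherian Y] {π : X ⟶ Y} {F : X.Modules}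
    [ConnectedSpace Y] [HasInjectiveResolutions X.Modules]
    (hπ : RelProj.IsProjective π) (hF : Coh.IsCoh F)
    (hFf : FlatMod.IsFlatOver π F) {d : ℕ}
    (hd : ∀ y : Y, topologicalKrullDim ↥{x : X | x ∈ CohB1.support F ∧ π.base x = y} ≤ d)
    (hAB : Flat π ∨ ∃ H : Y.Modules, CohB1.IsAmple H)
    {KX : Type u} [CommRing KX] {φX : SGA6.Kvb X →+ KX}
    {KY : Type u} [CommRing KY] [LambdaOps KY] {PY : PosStructure KY}
    {φY : SGA6.Kvb Y →+ KY} (hKY : KRR.IsModel Y KY PY φY)
    {g : KX →+ KY} (hg : KDet.IsPushF π F φX φY g) (z : SGA6.Kvb X)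
    (hz : ∀ (Z : Scheme.{u}) (j : Z ⟶ X) (A : Z.Modules), IsIntegral Z → IsNoetherian Z → CohB1.IsAmple A →
      topologicalKrullDim Z ≤ (d : WithBot ℕ∞) → PBK5.pullHom j z = 0) : PY.aug (g (φX z)) = 0 := by
  haveI := QuotProj11.isProper_of_isProjective hπ
  obtain ⟨y⟩ := (inferInstance : Nonempty Y)
  let κ : Type u := Y.residueField y
  letI : (π.fiber y).Over (Spec (CommRingCat.of κ)) := ⟨π.fiberToSpecResidueField y⟩
  haveI : IsProper (π.fiber y ↘ Spec (CommRingCat.of κ)) :=
    inferInstanceAs (IsProper (pullback.snd π (Y.fromSpecResidueField y)))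
  have hFy : Coh.IsCoh ((Scheme.Modules.pullback (π.fiberι y)).obj F) := M1.isCoh_pullback _ hF
  have heq : PY.aug (g (φX z)) = chiK κ hFy (PBK5.pullHom (π.fiberι y) z) :=
    good_ext hπ hF hFf hd hAB (a := PY.aug.toAddMonoidHom.comp (g.comp φX))
      (b := (chiK κ hFy).comp (PBK5.pullHom (π.fiberι y)).toAddMonoidHom) (fun E hE => by
        show PY.aug (g (φX (cl E))) = chiK κ hFy (PBK5.pullHom (π.fiberι y) (cl E))
        rw [push_cl hF hFf hg hE, PBK5.pullHom_cl _ hE.1, chiK_cl κ hFy (M2.isFinLocFree_pullback _ hE.1)]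
        exact aug_push_good hF hFf hKY hE y) z
  rw [heq]
  refine chiK_eq_zero κ (d := d) (fun Z i hi hZ hdZ => ?_) hFy ?_
  · obtain ⟨L, hL⟩ := exists_relAmple hπ
    have hA : CohB1.IsAmple ((Scheme.Modules.pullback i).obj ((Scheme.Modules.pullback (π.fiberι y)).obj L)) :=
      Amp.isAmple_pullback_of_isAffineHom _ ((RA.isRelAmple_iff_isAmple (f := π.fiber y ↘ Spec (CommRingCat.of κ))).1
        (RA.isRelAmple_of_isPullback (IsPullback.of_hasPullback π (Y.fromSpecResidueField y)) hL))
    haveI : IsNoetherian (π.fiber y) := CohFound.isNoetherian_of_isProper (π.fiber y ↘ Spec (CommRingCat.of κ))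
    haveI : IsLocallyNoetherian Z := LocallyOfFiniteType.isLocallyNoetherian i
    haveI : CompactSpace Z := QuasiCompact.compactSpace_of_compactSpace i
    haveI : IsNoetherian Z := {}
    rw [← PBK5.pullHom_comp]
    exact hz Z _ _ hZ inferInstance hA hdZ
  · rw [M2.support_pullback (π.fiberι y) hF.1 hF.2]
    let T := {x : X | x ∈ CohB1.support F ∧ π.base x = y}
    let g : ↥(π.fiberι y ⁻¹' CohB1.support F) → ↥T := fun z =>
      ⟨π.fiberι y z.1, z.2, ((π.fiberHomeo y) z.1).2⟩
    have hg : Topology.IsInducing g := by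
      refine Topology.IsInducing.codRestrict ?_ fun z => (g z).2
      exact (π.fiberι y).isEmbedding.isInducing.comp Topology.IsInducing.subtypeVal
    exact (hg.topologicalKrullDim_le).trans (hd y)

end Groth.Agent.IntShRes5
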