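import Groth.Agent.Lib.IntShRes5.Det
import Groth.Agent.Lib.CurveOm17.Dual
import Groth.Agent.Lib.DetSES2.Main
import Groth.Agent.Lib.DetNorm28.Frame
import Groth.Agent.Lib.VarDim.Top

/-!
# Determinants of direct images of invertible modules along finite flat maps

`det f_* L ⊗ det f_* M ≅ det f_* O ⊗ det f_* O` for mutually inverse invertible `L`, `M`.
-/

set_option autoImplicit false
set_option linter.style.haveILetI false
set_option backward.isDefEq.respectTransparency false
set_option backward.isDefEq.respectTransparency.types false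
set_option maxHeartbeats 800000

universe u v w

open CategoryTheory Limits AlgebraicGeometry Opposite TopologicalSpace TensorProduct exteriorPower

noncomputable section

namespace Groth.Agent.IntShRes5.NormIso

open Groth.Agent.KoszShH13 (IsAffBasis exists_glue)
open Groth.Agent.CurveOm17 (pushW act act_mres)
open Groth.Agent.CurveCoh17 (pushO)

section Alg

/-- An endomorphism of a free module of rank `n` acts on the top exterior power by its determinant. -/
theorem map_wedge_top {A : Type v} [CommRing A] {E : Type w} [AddCommGroup E] [Module A E] {n : ℕ}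
    (b : Module.Basis (Fin n) A E) (g : E →ₗ[A] E) (z : ⋀[A]^n E) :
    exteriorPower.map n g z = LinearMap.det g • z := by
  classical
  have hF : ∀ v : Fin n → E, ιMulti A n v = b.det v • ιMulti A n b := by
    intro v
    let K : Matrix (Fin n) (Fin n) A := Matrix.of fun i j => b.repr (v i) j
    have hv : v = fun i => ∑ j, K i j • b j := funext fun i => (b.sum_repr (v i)).symm
    have h1 := DetNorm28.alternating_matrix (ιMulti A n) b K
    rw [← hv] at h1
    rw [h1]
    congr 1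
    rw [Module.Basis.det_apply, ← Matrix.det_transpose]
    rfl
  have key : exteriorPower.map n g = LinearMap.det g • LinearMap.id := by
    refine exteriorPower.linearMap_ext (AlternatingMap.ext fun v => ?_)
    simp only [LinearMap.compAlternatingMap_apply, exteriorPower.map_apply_ιMulti, LinearMap.smul_apply,
      LinearMap.id_apply]
    rw [hF (g ∘ v), hF v, b.det_comp, mul_smul]
  rw [key, LinearMap.smul_apply, LinearMap.id_apply]

end Alg

variable {X Y : Scheme.{u}} (f : X ⟶ Y)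

section Act

variable (W : X.Modules)

/-- Multiplication of a section of `f_* W` by sections of `f_* O`. -/
def actL {U : Y.Opens} (s : Γ(pushW f W, U)) : Γ(pushO f, U) →ₗ[Γ(Y, U)] Γ(pushW f W, U) where
  toFun a := act f W a s
  map_add' a b := (CurveOm17.actBiMap f W).add_left U a b s
  map_smul' r a := (CurveOm17.actBiMap f W).smul_left U r a s

/-- Multiplication by a section of `f_* O`. -/
def mulL {U : Y.Opens} (u : Γ(pushO f, U)) : Γ(pushO f, U) →ₗ[Γ(Y, U)] Γ(pushO f, U) where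
  toFun a := ((show Γ(X, f ⁻¹ᵁ U) from a) * (show Γ(X, f ⁻¹ᵁ U) from u) : Γ(X, f ⁻¹ᵁ U))
  map_add' a b := add_mul (show Γ(X, f ⁻¹ᵁ U) from a) (show Γ(X, f ⁻¹ᵁ U) from b) _
  map_smul' r a := mul_assoc ((f.app U).hom r) (show Γ(X, f ⁻¹ᵁ U) from a) _

theorem mulL_mulL {U : Y.Opens} (u u' : Γ(X, f ⁻¹ᵁ U)) (h : u * u' = 1) :
    (mulL f (U := U) u).comp (mulL f (U := U) u') = LinearMap.id := LinearMap.ext fun a => by
  show ((show Γ(X, f ⁻¹ᵁ U) from a) * u') * u = a
  rw [mul_assoc, mul_comm u', h, mul_one]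

theorem actL_mulL {U : Y.Opens} (u : Γ(X, f ⁻¹ᵁ U)) (s : Γ(pushW f W, U)) (a : Γ(pushO f, U)) :
    act f W (mulL f (U := U) u a) s = act f W a (act f W (show Γ(pushO f, U) from u) s) :=
  mul_smul (show Γ(X, f ⁻¹ᵁ U) from a) u (show Γ(W, f ⁻¹ᵁ U) from s)

theorem bijective_actL {U : Y.Opens} {s : Γ(W, f ⁻¹ᵁ U)} (hs : Twist.IsGen W (f ⁻¹ᵁ U) s) :
    Function.Bijective (actL f W (U := U) s) := by
  have h := hs (f ⁻¹ᵁ U) le_rfl
  rw [show M1.mres W (le_refl (f ⁻¹ᵁ U)) s = s from ConcreteCategory.congr_hom (W.presheaf.map_id (op (f ⁻¹ᵁ U))) s] at h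
  exact h

variable {f} {W}
variable {n : ℕ} {D₀ DW : Y.Modules}
  (φ₀ : ∀ U : Y.affineOpens, Γ(D₀, U.1) ≃ₗ[Γ(Y, U.1)] ↥(⋀[Γ(Y, U.1)]^n Γ(pushO f, U.1)))
  (φW : ∀ U : Y.affineOpens, Γ(DW, U.1) ≃ₗ[Γ(Y, U.1)] ↥(⋀[Γ(Y, U.1)]^n Γ(pushW f W, U.1)))

/-- The comparison of determinants given by a section. -/
def detL (U : Y.affineOpens) (s : Γ(pushW f W, U.1)) : Γ(D₀, U.1) →ₗ[Γ(Y, U.1)] Γ(DW, U.1) :=
  (φW U).symm.toLinearMap.comp ((exteriorPower.map n (actL f W s)).comp (φ₀ U).toLinearMap)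

theorem bijective_detL (U : Y.affineOpens) {s : Γ(W, f ⁻¹ᵁ U.1)} (hs : Twist.IsGen W (f ⁻¹ᵁ U.1) s) :
    Function.Bijective (detL φ₀ φW U (s : Γ(pushW f W, U.1))) := by
  let e := LinearEquiv.ofBijective (actL f W (U := U.1) s) (bijective_actL f W hs)
  have hm : Function.Bijective (exteriorPower.map n e.toLinearMap) := by
    refine Function.bijective_iff_has_inverse.2 ⟨exteriorPower.map n e.symm.toLinearMap, fun z => ?_, fun z => ?_⟩
    · rw [← LinearMap.comp_apply, ← exteriorPower.map_comp, e.symm_comp, exteriorPower.map_id, LinearMap.id_apply]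
    · rw [← LinearMap.comp_apply, ← exteriorPower.map_comp, e.comp_symm, exteriorPower.map_id, LinearMap.id_apply]
  exact (φW U).symm.bijective.comp (hm.comp (φ₀ U).bijective)

theorem res_detL
    (hφ₀ : ∀ (U V : Y.affineOpens) (h : V.1 ≤ U.1) (e : Fin n → Γ(pushO f, U.1)),
      M1.mres D₀ h ((φ₀ U).symm (ιMulti _ n e)) = (φ₀ V).symm (ιMulti _ n fun j => M1.mres (pushO f) h (e j)))
    (hφW : ∀ (U V : Y.affineOpens) (h : V.1 ≤ U.1) (e : Fin n → Γ(pushW f W, U.1)),
      M1.mres DW h ((φW U).symm (ιMulti _ n e)) = (φW V).symm (ιMulti _ n fun j => M1.mres (pushW f W) h (e j)))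
    {U V : Y.affineOpens} (h : V.1 ≤ U.1) (b : Module.Basis (Fin n) Γ(Y, V.1) Γ(pushO f, V.1))
    {s : Γ(pushW f W, U.1)} {t : Γ(pushW f W, V.1)} {u : Γ(X, f ⁻¹ᵁ V.1)}
    (hu : M1.mres (pushW f W) h s = act f W (show Γ(pushO f, V.1) from u) t) (x : Γ(D₀, U.1)) :
    M1.mres DW h (detL φ₀ φW U s x) = LinearMap.det (mulL f (U := V.1) u) • detL φ₀ φW V t (M1.mres D₀ h x) := by
  obtain ⟨z, rfl⟩ := (φ₀ U).symm.surjective x
  have hz : z ∈ Submodule.span Γ(Y, U.1) (Set.range (ιMulti Γ(Y, U.1) n (M := Γ(pushO f, U.1)))) := by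
    rw [exteriorPower.ιMulti_span]; exact Submodule.mem_top
  induction hz using Submodule.span_induction with
  | zero => simp only [map_zero, smul_zero]
  | add a c _ _ ha hc => simp only [map_add, ha, hc, smul_add]
  | smul r a _ ha =>
    simp only [map_smul, ExtFil4.res_smul, ha]
    exact smul_comm _ _ _
  | mem a ha =>
    obtain ⟨e, rfl⟩ := ha
    simp only [detL, LinearMap.comp_apply, LinearEquiv.coe_coe, LinearEquiv.apply_symm_apply,
      exteriorPower.map_apply_ιMulti, hφW, hφ₀]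
    have h1 : (fun j => M1.mres (pushW f W) h (actL f W s (e j))) =
        fun j => actL f W t (mulL f (U := V.1) u (M1.mres (pushO f) h (e j))) := funext fun j => by
      refine (act_mres f W h (e j) s).trans ?_
      rw [hu]
      exact (actL_mulL f W u t (M1.mres (pushO f) h (e j))).symm
    rw [← map_smul]
    congr 1
    show ιMulti _ n (fun j => M1.mres (pushW f W) h (actL f W s (e j))) = _
    rw [h1]
    refine (exteriorPower.map_apply_ιMulti (actL f W t) fun j => mulL f (U := V.1) u (M1.mres (pushO f) h (e j))).symm.trans ?_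
    refine (congrArg (exteriorPower.map n (actL f W t))
      ((exteriorPower.map_apply_ιMulti (mulL f (U := V.1) u) _).symm.trans (map_wedge_top b _ _))).trans ?_
    rw [map_smul]
    exact congrArg _ (exteriorPower.map_apply_ιMulti _ _)

end Act

/-- The unit section of the structure module. -/
def oneS (V : X.Opens) : Γ(Coh.structureModule X, V) := (1 : Γ(X, V))

/-- Generators of mutually inverse modules multiplying to one. -/
def Normed {L M : X.Modules} (ψ : CohB1.tensorMod L M ≅ Coh.structureModule X) {V : X.Opens} (s : Γ(L, V))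
    (s' : Γ(M, V)) : Prop :=
  Twist.IsGen L V s ∧ Twist.IsGen M V s' ∧ ψ.hom.app V (M2.tsec L M s s') = oneS V

theorem Normed.mres {L M : X.Modules} {ψ : CohB1.tensorMod L M ≅ Coh.structureModule X} {V V' : X.Opens}
    {s : Γ(L, V)} {s' : Γ(M, V)} (h : Normed ψ s s') (hV : V' ≤ V) :
    Normed ψ (M1.mres L hV s) (M1.mres M hV s') := by
  refine ⟨h.1.mres hV, h.2.1.mres hV, ?_⟩
  rw [← M2.res_tsec hV s s']
  refine (M1.app_mres ψ.hom hV _).trans ?_
  exact (congrArg (M1.mres (Coh.structureModule X) hV) h.2.2).trans (map_one (X.presheaf.map (homOfLE hV).op).hom)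

theorem exists_normed [IsFinite f] {L M : X.Modules} (hL : PicF.IsInvertible L) (hM : PicF.IsInvertible M)
    (ψ : CohB1.tensorMod L M ≅ Coh.structureModule X) (y : Y) :
    ∃ (D : Y.Opens) (s : Γ(L, f ⁻¹ᵁ D)) (s' : Γ(M, f ⁻¹ᵁ D)), y ∈ D ∧ Normed ψ s s' := by
  obtain ⟨D₁, hy₁, ⟨i₁⟩⟩ := Curve17.exists_trivial_near_fibre f L hL y
  obtain ⟨D₂, hy₂, ⟨i₂⟩⟩ := Curve17.exists_trivial_near_fibre f M hM y
  obtain ⟨g₁, hg₁⟩ := ParaF27.exists_isGen_of_iso i₁
  obtain ⟨g₂, hg₂⟩ := ParaF27.exists_isGen_of_iso i₂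
  let V := f ⁻¹ᵁ (D₁ ⊓ D₂)
  have h₁ := hg₁.mres (f.preimage_mono (inf_le_left : D₁ ⊓ D₂ ≤ D₁))
  have h₂ := hg₂.mres (f.preimage_mono (inf_le_right : D₁ ⊓ D₂ ≤ D₂))
  have hg := CurveOm17.isGen_tsec h₁ h₂
  let a := M1.mres L (f.preimage_mono (inf_le_left : D₁ ⊓ D₂ ≤ D₁)) g₁
  let b := M1.mres M (f.preimage_mono (inf_le_right : D₁ ⊓ D₂ ≤ D₂)) g₂
  obtain ⟨r, hr⟩ := (hg V le_rfl).2 (ψ.inv.app V (oneS V))
  dsimp only at hr
  have hr' : r • M2.tsec L M a b = ψ.inv.app V (oneS V) :=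
    (congrArg (r • ·) (ConcreteCategory.congr_hom ((CohB1.tensorMod L M).presheaf.map_id (op V)) _).symm).trans hr
  have hψ : ψ.hom.app V (M2.tsec L M a (r • b)) = oneS V := by
    rw [M2.tsec_smul_right, hr', ← CategoryTheory.comp_apply, ← Scheme.Modules.Hom.comp_app, ψ.inv_hom_id]
    rfl
  have hunit : r * (show Γ(X, V) from ψ.hom.app V (M2.tsec L M a b)) = 1 := by
    rw [M2.tsec_smul_right, Scheme.Modules.Hom.app_smul] at hψ
    exact hψ
  refine ⟨D₁ ⊓ D₂, a, r • b, ⟨hy₁, hy₂⟩, h₁, fun W hW => ?_, hψ⟩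
  have hu : IsUnit ((M1.ores hW).hom r) := (IsUnit.of_mul_eq_one _ hunit).map _
  have hb := h₂ W hW
  convert hb.comp (show Function.Bijective (fun c => c * (M1.ores hW).hom r) from hu.unit.mulRight_bijective) using 1
  funext c
  show c • M1.mres M hW (r • b) = (c * (M1.ores hW).hom r) • M1.mres M hW b
  rw [M1.mres_smul, mul_smul]

/-- `det f_* O ⊗ det f_* O ≅ det f_* L ⊗ det f_* M` for mutually inverse invertible modules. -/
theorem nonempty_iso [IsFinite f] {L M : X.Modules} (hL : PicF.IsInvertible L) (hM : PicF.IsInvertible M)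
    (ψ : CohB1.tensorMod L M ≅ Coh.structureModule X) {n : ℕ}
    (hn : FlatMod.IsFinLocFreeOfRank n (pushO f)) {D₀ DL DM : Y.Modules}
    (hD₀ : ExtPow.IsExtPow n (pushO f) D₀) (hDL : ExtPow.IsExtPow n (pushW f L) DL)
    (hDM : ExtPow.IsExtPow n (pushW f M) DM) (hD₀f : FlatMod.IsFinLocFree D₀) (hDLf : FlatMod.IsFinLocFree DL)
    (hDMf : FlatMod.IsFinLocFree DM) :
    Nonempty (CohB1.tensorMod D₀ D₀ ≅ CohB1.tensorMod DL DM) := by
  obtain ⟨φ₀, hφ₀⟩ := ExtFil4.exists_phi hD₀
  obtain ⟨φL, hφL⟩ := ExtFil4.exists_phi hDL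
  obtain ⟨φM, hφM⟩ := ExtFil4.exists_phi hDM
  let P : Y.affineOpens → Prop := fun U => Nonempty (Module.Basis (Fin n) Γ(Y, U.1) Γ(pushO f, U.1)) ∧
    ∃ (s : Γ(L, f ⁻¹ᵁ U.1)) (s' : Γ(M, f ⁻¹ᵁ U.1)), Normed ψ s s'
  have hP : IsAffBasis P := by
    intro O x hx
    obtain ⟨D, s, s', hxD, hs⟩ := exists_normed (f := f) hL hM ψ x
    obtain ⟨D₁, e₁, hx₁, he₁⟩ := P1Split.exists_isBas_nhd hn x
    obtain ⟨V, hV, hxV, hVle⟩ := exists_isAffineOpen_mem_and_subset (U := O ⊓ (D₁ ⊓ D)) (x := x) ⟨hx, hx₁, hxD⟩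
    have h : V ≤ O ⊓ (D₁ ⊓ D) := hVle
    exact ⟨⟨V, hV⟩, ⟨DetSES2.nonempty_basis' (h.trans (inf_le_right.trans inf_le_left)) he₁,
      _, _, hs.mres (f.preimage_mono (h.trans (inf_le_right.trans inf_le_right)))⟩, hxV, h.trans inf_le_left⟩
  let sL : ∀ U, P U → Γ(L, f ⁻¹ᵁ U.1) := fun U hU => hU.2.choose
  let sM : ∀ U, P U → Γ(M, f ⁻¹ᵁ U.1) := fun U hU => hU.2.choose_spec.choose
  have hsp : ∀ U hU, Normed ψ (sL U hU) (sM U hU) := fun U hU => hU.2.choose_spec.choose_spec
  let e₀ : ∀ U : Y.affineOpens, Γ(D₀, U.1) ⊗[Γ(Y, U.1)] Γ(D₀, U.1) ≃ₗ[Γ(Y, U.1)] Γ(CohB1.tensorMod D₀ D₀, U.1) :=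
    fun U => LinearEquiv.ofBijective (CBC10.secTensor D₀ D₀)
      (CBC10.bijective_secTensor D₀ D₀ (M2.isQCoh_of_isFinLocFree hD₀f) (M2.isQCoh_of_isFinLocFree hD₀f) U.2)
  let fam : ∀ U, P U → (Γ(CohB1.tensorMod D₀ D₀, U.1) →ₗ[Γ(Y, U.1)] Γ(CohB1.tensorMod DL DM, U.1)) := fun U hU =>
    ((CBC10.secTensor DL DM).comp (TensorProduct.map (detL φ₀ φL U (sL U hU : Γ(pushW f L, U.1)))
      (detL φ₀ φM U (sM U hU : Γ(pushW f M, U.1))))).comp (e₀ U).symm.toLinearMap
  have hbij : ∀ U hU, Function.Bijective (fam U hU) := fun U hU =>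
    ((CBC10.bijective_secTensor DL DM (M2.isQCoh_of_isFinLocFree hDLf) (M2.isQCoh_of_isFinLocFree hDMf) U.2).comp
      (TensorProduct.map_bijective (bijective_detL φ₀ φL U (hsp U hU).1) (bijective_detL φ₀ φM U (hsp U hU).2.1))).comp
      (e₀ U).symm.bijective
  obtain ⟨π, hπ⟩ := exists_glue hP (fun U hU => (fam U hU).toAddMonoidHom)
    (fun U hU c m => (fam U hU).map_smul c m) (fun U hU V hV h m => by
      show M1.mres _ h (fam U hU m) = fam V hV (M1.mres _ h m)
      obtain ⟨u, hu⟩ := (bijective_actL f L (hsp V hV).1).2 (M1.mres (pushW f L) h (sL U hU : Γ(pushW f L, U.1)))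
      obtain ⟨u', hu'⟩ := (bijective_actL f M (hsp V hV).2.1).2 (M1.mres (pushW f M) h (sM U hU : Γ(pushW f M, U.1)))
      have huu : (show Γ(X, f ⁻¹ᵁ V.1) from u) * (show Γ(X, f ⁻¹ᵁ V.1) from u') = 1 := by
        have h1 := ((hsp U hU).mres (f.preimage_mono h)).2.2
        rw [show M1.mres L (f.preimage_mono h) (sL U hU) = (show Γ(X, f ⁻¹ᵁ V.1) from u) • sL V hV from hu.symm,
          show M1.mres M (f.preimage_mono h) (sM U hU) = (show Γ(X, f ⁻¹ᵁ V.1) from u') • sM V hV from hu'.symm,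
          M2.tsec_smul_left, M2.tsec_smul_right, smul_smul, Scheme.Modules.Hom.app_smul] at h1
        refine (mul_one _).symm.trans ?_
        exact (congrArg (fun w => (show Γ(X, f ⁻¹ᵁ V.1) from u) * (show Γ(X, f ⁻¹ᵁ V.1) from u') * (show Γ(X, f ⁻¹ᵁ V.1) from w))
          (hsp V hV).2.2.symm).trans h1
      have hdet : LinearMap.det (mulL f (U := V.1) u) * LinearMap.det (mulL f (U := V.1) u') = 1 := by
        rw [← LinearMap.det_comp, mulL_mulL f _ _ huu, LinearMap.det_id]
      obtain ⟨z, rfl⟩ := (e₀ U).surjective m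
      induction z using TensorProduct.induction_on with
      | zero => simp only [map_zero]
      | add a c ha hc => simp only [map_add, ha, hc]
      | tmul a c =>
        have hres : M1.mres (CohB1.tensorMod D₀ D₀) h (e₀ U (a ⊗ₜ c)) =
            e₀ V (M1.mres D₀ h a ⊗ₜ M1.mres D₀ h c) := by
          simp only [e₀, LinearEquiv.ofBijective_apply, CBC10.secTensor_tmul]
          exact M2.res_tsec h a c
        rw [hres]
        simp only [fam, LinearMap.comp_apply, LinearEquiv.coe_coe, LinearEquiv.symm_apply_apply,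
          TensorProduct.map_tmul, CBC10.secTensor_tmul]
        refine (M2.res_tsec h _ _).trans ?_
        refine (congrArg₂ (M2.tsec DL DM) (res_detL φ₀ φL hφ₀ hφL h hV.1.some hu.symm a)
          (res_detL φ₀ φM hφ₀ hφM h hV.1.some hu'.symm c)).trans ?_
        rw [M2.tsec_smul_left, M2.tsec_smul_right, smul_smul, hdet, one_smul])
  haveI : IsIso π := (M1.isIso_iff_stalk π).2 fun x =>
    KoszShH13.bijective_stalk_of_basis hP π x fun U hU _ => by
      convert hbij U hU using 1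
      exact funext fun m => hπ U hU m
  exact ⟨asIso π⟩

/-- A morphism with fibres of dimension zero that is proper is finite. -/
theorem isFinite_of_dim [IsNoetherian X] [IsProper f]
    (hd : ∀ y : Y, topologicalKrullDim (↥(f.fiber y) : Type u) = 0) : IsFinite f := by
  haveI : LocallyQuasiFinite f := LocallyQuasiFinite.of_finite_preimage_singleton f fun y => by
    haveI : IsNoetherian (f.fiber y) := by
      haveI : LocallyOfFiniteType (f.fiberToSpecResidueField y) :=
        MorphismProperty.pullback_snd (P := @LocallyOfFiniteType) _ _ inferInstance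
      haveI : IsLocallyNoetherian (f.fiber y) :=
        LocallyOfFiniteType.isLocallyNoetherian (f.fiberToSpecResidueField y)
      constructor
    have hdim := (hd y).le
    rw [VarDim.scheme_dim_eq_iSup_height, iSup_le_iff] at hdim
    have hmax : ∀ a b : f.fiber y, b ⤳ a → a = b := fun a b hs => by
      by_contra hne
      have hlt : a < b := VarDim.lt_of_specializes_ne hs hne
      have h1 : Order.height b ≤ 0 := WithBot.coe_le_coe.1 (hdim b)
      exact absurd (Order.height_eq_zero.1 (nonpos_iff_eq_zero.1 h1) hlt.le) hlt.not_ge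
    have hfin : (Set.univ : Set (f.fiber y)).Finite := by
      rw [← sUnion_irreducibleComponents]
      refine (TopologicalSpace.NoetherianSpace.finite_irreducibleComponents (α := f.fiber y)).sUnion fun C hC => ?_
      refine Set.Subsingleton.finite fun a ha b hb => ?_
      have hg := (hC.1 : IsIrreducible C).isGenericPoint_genericPoint (isClosed_of_mem_irreducibleComponents C hC)
      rw [hmax a _ (hg.specializes ha), hmax b _ (hg.specializes hb)]
    haveI := Set.finite_univ_iff.1 hfin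
    rw [← f.range_fiberι y]
    exact Set.finite_range _
  exact IsFinite.of_isProper_of_locallyQuasiFinite f

end Groth.Agent.IntShRes5.NormIso
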