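import Groth.Agent.Lib.IntShRes5.PosSeg
import Groth.Agent.Lib.Snapper.Positive
import Groth.Agent.Lib.CohFound.DevissageExt
import Groth.Agent.Lib.IntShRes5.Main

/-! Nonnegativity of the relative intersection number of the top Chern class. -/

set_option autoImplicit false
set_option linter.style.haveILetI false
set_option backward.isDefEq.respectTransparency false
set_option backward.isDefEq.respectTransparency.types false
set_option maxHeartbeats 800000
set_option synthInstance.maxHeartbeats 100000

universe u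

open CategoryTheory CategoryTheory.Limits AlgebraicGeometry TopologicalSpace Opposite LambdaRing

noncomputable section

namespace Groth.Agent.IntShRes5

open Groth.Agent
open Groth.Agent.ExtFil4 (cl)

attribute [local instance] ExtFil4.kvbRing

/-- A nonzero ideal module on an integral scheme has full support. -/
theorem support_ideal {Z : Scheme.{u}} [IsIntegral Z] {I : Z.Modules} (ι : I ⟶ Coh.structureModule Z) [Mono ι]
    (hI : Coh.IsCoh I) : IsZero I ∨ CohB1.support I = Set.univ := by
  by_cases hη : genericPoint Z ∈ CohB1.support I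
  · right
    refine Set.univ_subset_iff.1 ?_
    rw [← genericPoint_closure, (M1.isClosed_support hI.2).closure_subset_iff]
    exact Set.singleton_subset_iff.2 hη
  · left
    refine Snapper.isZero_of_support_empty (Set.eq_empty_of_forall_notMem fun x hx => hx ?_)
    refine subsingleton_of_forall_eq 0 fun a => ?_
    obtain ⟨U, hxU, s, rfl⟩ := I.presheaf.exists_germ_eq a
    have hηU : genericPoint Z ∈ U := ((genericPoint_spec Z).mem_open_set_iff U.2).2 ⟨x, trivial, hxU⟩
    have h0 : I.presheaf.germ U (genericPoint Z) hηU s = 0 := (M1.notMem_support_iff I _).1 hη _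
    obtain ⟨V, hV, i₁, i₂, he⟩ := I.presheaf.germ_eq (genericPoint Z) (U := U) (V := U) hηU hηU s 0
      (h0.trans (map_zero _).symm)
    haveI : Nonempty V := ⟨⟨_, hV⟩⟩
    have hz : M1.mres I i₁.le s = 0 := he.trans (map_zero _)
    have h1 : M1.mres (Coh.structureModule Z) i₁.le (ι.app U s) = 0 := by
      rw [← M1.app_mres ι i₁.le s, hz, map_zero]
    have hs : ι.app U s = 0 := by
      refine map_injective_of_isIntegral (X := Z) i₁ ?_
      rw [map_zero]; exact h1
    have : s = 0 := PBK5.injective_app_of_mono ι U (hs.trans (map_zero _).symm)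
    rw [this, map_zero]

/-- The quotient by a nonzero ideal has smaller support. -/
theorem dim_support_cokernel_le {Z : Scheme.{u}} [IsIntegral Z] {I : Z.Modules} (ι : I ⟶ Coh.structureModule Z)
    [Mono ι] (hI : Coh.IsCoh I) [IsLocallyNoetherian Z] (hsupp : CohB1.support I = Set.univ) {d : ℕ}
    (hd : topologicalKrullDim Z ≤ (d : WithBot ℕ∞)) :
    (d = 0 → CohB1.support (cokernel ι) = ∅) ∧
      ∀ e, d = e + 1 → topologicalKrullDim (CohB1.support (cokernel ι)) ≤ (e : WithBot ℕ∞) := by
  let η := genericPoint Z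
  have hQ : Coh.IsCoh (cokernel ι) := M1.isCoh_cokernel hI.1 (M1.isCoh_structureModule Z) ι
  have hη : η ∉ CohB1.support (cokernel ι) := by
    intro hmem
    refine hmem (subsingleton_of_forall_eq 0 fun q => ?_)
    have hsurj : Function.Surjective ((M1.stalkAb η).map (cokernel.π ι)) := by
      haveI : Epi ((M1.stalkAb η).map (cokernel.π ι)) := inferInstance
      exact (AddCommGrpCat.epi_iff_surjective _).1 inferInstance
    obtain ⟨b, rfl⟩ := hsurj q
    have hIne : ¬ Subsingleton (I.presheaf.stalk η) := hsupp.ge (Set.mem_univ η)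
    obtain ⟨a, ha⟩ : ∃ a : I.presheaf.stalk η, a ≠ 0 := by
      by_contra h
      push Not at h
      exact hIne (subsingleton_of_forall_eq 0 h)
    have ha' : CurveCoh17.stalkLin ι η a ≠ 0 := fun h0 =>
      ha ((KFlat.Sch.mono_iff_stalk ι).1 inferInstance η (h0.trans (map_zero _).symm))
    let T : (Coh.structureModule Z).presheaf.stalk η ≃ₗ[Z.presheaf.stalk η] (Z.presheaf.stalk η : Type u) :=
      (CurveCoh17.nonempty_stalk_equiv_structureModule η).some.trans (LinearEquiv.funUnique (Fin 1) _ _)
    have hK : IsField (Z.presheaf.stalk η) := Field.toIsField Z.functionField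
    obtain ⟨v, hv⟩ := hK.mul_inv_cancel (fun h => ha' (T.injective (h.trans (map_zero T).symm)))
    have hb : b = (T b * v) • CurveCoh17.stalkLin ι η a := T.injective (by
      rw [map_smul, smul_eq_mul, mul_assoc, mul_comm v, hv, mul_one])
    show CurveCoh17.stalkLin (cokernel.π ι) η b = 0
    rw [hb, map_smul, ← CurveCoh17.stalkLin_comp, cokernel.condition]
    have h0 : CurveCoh17.stalkLin (0 : I ⟶ cokernel ι) η a = 0 :=
      congrArg (fun f => f a) ((M1.stalkAb η).map_zero I (cokernel ι))
    rw [h0, smul_zero]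
  have hC := M1.isClosed_support hQ.2
  have hcl : closure ({η} : Set Z) = Set.univ := genericPoint_closure _
  have hsub : CohB1.support (cokernel ι) ⊆ closure {η} := hcl ▸ Set.subset_univ _
  have hdcl : topologicalKrullDim (closure ({η} : Set Z)) ≤ (d : WithBot ℕ∞) :=
    Topology.IsInducing.subtypeVal.topologicalKrullDim_le.trans hd
  refine ⟨fun h0 => Snapper.eq_empty_of_notMem hC hsub hη (by subst h0; simpa using hdcl), fun e he => ?_⟩
  subst he
  exact Snapper.dim_le_of_notMem hC hsub hη hdcl

/-- The relative intersection number of the top Chern class of a generated bundle is nonnegative. -/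
theorem aug_push_gamma_nonneg {X Y : Scheme.{u}} [IsNoetherian X] [IsNoetherian Y] [ConnectedSpace X]
    [ConnectedSpace Y] {π : X ⟶ Y} [HasInjectiveResolutions X.Modules] (hπ : RelProj.IsProjective π)
    {F : X.Modules} (hF : Coh.IsCoh F)
    (hFf : FlatMod.IsFlatOver π F) {d : ℕ}
    (hd : ∀ y : Y, topologicalKrullDim ↥{x : X | x ∈ CohB1.support F ∧ π.base x = y} ≤ d)
    (hAB : Flat π ∨ ∃ H : Y.Modules, CohB1.IsAmple H)
    {KX : Type u} [CommRing KX] [LambdaOps KX] {PX : PosStructure KX}
    {φX : SGA6.Kvb X →+ KX} (hKX : KRR.IsModel X KX PX φX)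
    {KY : Type u} [CommRing KY] [LambdaOps KY] {PY : PosStructure KY}
    {φY : SGA6.Kvb Y →+ KY} (hKY : KRR.IsModel Y KY PY φY)
    {g : KX →+ KY} (hg : KDet.IsPushF π F φX φY g)
    {G : Y.Modules} (hG : FlatMod.IsFinLocFree G)
    {E : X.Modules} (hE : FlatMod.IsFinLocFreeOfRank (d + 1) E)
    (q : (Scheme.Modules.pullback π).obj G ⟶ E) [Epi q] :
    0 ≤ PY.aug (g (gamma d (φX (KRR.cl X E) - ((d + 1 : ℕ) : KX)))) := by
  haveI := QuotProj11.isProper_of_isProjective hπ
  obtain ⟨y⟩ := (inferInstance : Nonempty Y)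
  let κ : Type u := Y.residueField y
  letI : (π.fiber y).Over (Spec (CommRingCat.of κ)) := ⟨π.fiberToSpecResidueField y⟩
  haveI : IsProper (π.fiber y ↘ Spec (CommRingCat.of κ)) :=
    inferInstanceAs (IsProper (pullback.snd π (Y.fromSpecResidueField y)))
  haveI : IsNoetherian (π.fiber y) := CohFound.isNoetherian_of_isProper (π.fiber y ↘ Spec (CommRingCat.of κ))
  have hFy : Coh.IsCoh ((Scheme.Modules.pullback (π.fiberι y)).obj F) := M1.isCoh_pullback _ hF
  obtain ⟨z, hz⟩ := hKX.bijective.2 (gamma d (φX (KRR.cl X E) - ((d + 1 : ℕ) : KX)))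
  rw [← hz]
  have heq : PY.aug (g (φX z)) = chiK κ hFy (PBK5.pullHom (π.fiberι y) z) :=
    good_ext hπ hF hFf hd hAB (a := PY.aug.toAddMonoidHom.comp (g.comp φX))
      (b := (chiK κ hFy).comp (PBK5.pullHom (π.fiberι y)).toAddMonoidHom) (fun B hB => by
        show PY.aug (g (φX (cl B))) = chiK κ hFy (PBK5.pullHom (π.fiberι y) (cl B))
        rw [push_cl hF hFf hg hB, PBK5.pullHom_cl _ hB.1, chiK_cl κ hFy (M2.isFinLocFree_pullback _ hB.1)]
        exact aug_push_good hF hFf hKY hB y) z
  rw [heq]
  -- classes on closed integral subschemes of the fibre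
  obtain ⟨L, hL⟩ := exists_relAmple hπ
  have hL' := (RA.isRelAmple_iff_isAmple (f := π.fiber y ↘ Spec (CommRingCat.of κ))).1
    (RA.isRelAmple_of_isPullback (IsPullback.of_hasPullback π (Y.fromSpecResidueField y)) hL)
  have hdata : ∀ (Z : Scheme.{u}) (i : Z ⟶ π.fiber y) (hi : IsClosedImmersion i), IsIntegral Z →
      ∀ (A : Z.Modules), CohB1.IsAmple A →
      ∀ e : ℕ, topologicalKrullDim Z ≤ (e : WithBot ℕ∞) → e ≤ d →
      (e < d → PBK5.pullHom (i ≫ π.fiberι y) z = 0) ∧
      (letI : Z.Over (Spec (CommRingCat.of κ)) := ⟨i ≫ (π.fiber y ↘ Spec (CommRingCat.of κ))⟩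
       haveI : IsProper (Z ↘ Spec (CommRingCat.of κ)) :=
        inferInstanceAs (IsProper (i ≫ (π.fiber y ↘ Spec (CommRingCat.of κ))))
       0 ≤ chi0 κ Z (PBK5.pullHom (i ≫ π.fiberι y) z)) := by
    intro Z i hi hZ A hA e he hed
    letI : Z.Over (Spec (CommRingCat.of κ)) := ⟨i ≫ (π.fiber y ↘ Spec (CommRingCat.of κ))⟩
    haveI : IsProper (Z ↘ Spec (CommRingCat.of κ)) :=
      inferInstanceAs (IsProper (i ≫ (π.fiber y ↘ Spec (CommRingCat.of κ))))
    haveI : IsNoetherian Z := CohFound.isNoetherian_of_isProper (Z ↘ Spec (CommRingCat.of κ))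
    obtain ⟨K', j1, j2, P', φ', hK'⟩ := KModel5.exists_model Z
    let j := i ≫ π.fiberι y
    let ψ := AddEquiv.ofBijective φX hKX.bijective
    let p : KX →+ K' := φ'.comp ((PBK5.pullHom j).toAddMonoidHom.comp ψ.symm.toAddMonoidHom)
    have hp : KRR.IsPull j φX φ' p := fun B hB => by
      show φ' (PBK5.pullHom j (ψ.symm (φX _))) = _
      rw [show ψ.symm (φX (KRR.cl X B)) = KRR.cl X B from ψ.symm_apply_apply _]
      exact congrArg φ' (PBK5.pullHom_cl _ hB)
    let h := PBK5.pullRingHom hKX hK' hp
    have hzz : φ' (PBK5.pullHom j z) =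
        gamma d (φ' (cl ((Scheme.Modules.pullback j).obj E)) - ((d + 1 : ℕ) : K')) := by
      rw [← PBK5.isPull_apply hp, hz, ← PBK5.pullRingHom_apply hKX hK' hp,
        Lambda.gamma_map h (fun j x => PBK5.pull_lam hKX hK' hp j x), map_sub, map_natCast,
        PBK5.pullRingHom_apply, hp E (M2.isFinLocFree_of_ofRank hE)]
    refine ⟨fun hlt => ?_, ?_⟩
    · have hmem : φ' (PBK5.pullHom j z) ∈ gammaFiltration P' (e + 1) := by
        rw [hzz]
        refine Lambda.gammaFiltration_anti P' hlt (Lambda.gamma_mem ?_ d)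
        rw [map_sub, map_natCast, hK'.aug_cl _ _ (M2.isFinLocFreeOfRank_pullback j hE)]
        simp
      rw [PBK5.gammaFiltration_eq_bot hA he hK', AddSubgroup.mem_bot] at hmem
      exact hK'.bijective.1 (hmem.trans (map_zero φ').symm)
    · haveI : Subsingleton (Spec (Y.residueField y)) := inferInstanceAs (Subsingleton (PrimeSpectrum _))
      haveI : Nonempty (Spec (Y.residueField y)) := inferInstanceAs (Nonempty (PrimeSpectrum _))
      obtain ⟨r, ⟨t⟩⟩ := exists_iso_freeMod_of_point (M2.isFinLocFree_pullback (Y.fromSpecResidueField y) hG)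
      have hfac : j ≫ π = (i ≫ π.fiberToSpecResidueField y) ≫ Y.fromSpecResidueField y := by
        simp only [j, Category.assoc, π.fiber_fac]
      let a : (Scheme.Modules.pullback j).obj ((Scheme.Modules.pullback π).obj G) ≅ FlatMod.freeMod Z r :=
        (Scheme.Modules.pullbackComp j π).app G ≪≫ (Scheme.Modules.pullbackCongr hfac).app G ≪≫
          ((Scheme.Modules.pullbackComp (i ≫ π.fiberToSpecResidueField y) (Y.fromSpecResidueField y)).app G).symm ≪≫
          (Scheme.Modules.pullback (i ≫ π.fiberToSpecResidueField y)).mapIso t ≪≫ M2.freeModPullbackIso _ r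
      haveI : Epi ((Scheme.Modules.pullback j).map q) := inferInstance
      haveI : Epi (a.inv ≫ (Scheme.Modules.pullback j).map q) := epi_comp _ _
      exact chi0_gamma_nonneg κ hA (he.trans (Nat.cast_le.2 hed)) (M2.isFinLocFreeOfRank_pullback j hE)
        (a.inv ≫ (Scheme.Modules.pullback j).map q) hK' hzz
  let P : (π.fiber y).Modules → Prop := fun N =>
    topologicalKrullDim (CohB1.support N) ≤ (d : WithBot ℕ∞) →
      ∀ hN : Coh.IsCoh N, 0 ≤ chiK κ hN (PBK5.pullHom (π.fiberι y) z)
  suffices hP : P ((Scheme.Modules.pullback (π.fiberι y)).obj F) by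
    refine hP ?_ hFy
    rw [M2.support_pullback (π.fiberι y) hF.1 hF.2]
    let T := {x : X | x ∈ CohB1.support F ∧ π.base x = y}
    let f : ↥(π.fiberι y ⁻¹' CohB1.support F) → ↥T := fun z =>
      ⟨π.fiberι y z.1, z.2, ((π.fiberHomeo y) z.1).2⟩
    have hf : Topology.IsInducing f := by
      refine Topology.IsInducing.codRestrict ?_ fun z => (f z).2
      exact (π.fiberι y).isEmbedding.isInducing.comp Topology.IsInducing.subtypeVal
    exact (hf.topologicalKrullDim_le).trans (hd y)
  rcases isEmpty_or_nonempty (π.fiber y) with hX | hX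
  · intro _ hN
    rw [chiK_isZero κ hN (Snapper.isZero_of_support_empty (Set.eq_empty_of_isEmpty _))]
  refine CohFound.holds_of_extensions P (fun A B ⟨e⟩ hA hdim hB => ?_) (fun S hS h1 h2 h3 p1 p3 hdim h => ?_)
    (fun Z i hi hZ I ι hι hI => ?_) hFy
  · have hs : CohB1.support A = CohB1.support B :=
      subset_antisymm (CohFound.support_subset_of_mono e.hom) (CohFound.support_subset_of_mono e.inv)
    rw [← chiK_congr κ e (CohFound.isCoh_of_iso e.symm hB) hB]
    exact hA (hs ▸ hdim) _
  · rw [CohGab13.support_mid hS] at hdim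
    rw [chiK_add κ hS h1 h h3]
    exact add_nonneg (p1 (Snapper.dim_le_of_subset Set.subset_union_left hdim) h1)
      (p3 (Snapper.dim_le_of_subset Set.subset_union_right hdim) h3)
  haveI := hι
  haveI : IsLocallyNoetherian Z := LocallyOfFiniteType.isLocallyNoetherian i
  have hIc : Coh.IsCoh I := M1.isCoh_of_mono ι (M1.isCoh_structureModule Z) hI
  intro hdim hN
  rcases support_ideal ι hIc with h0 | hsupp
  · rw [chiK_isZero κ hN ((Coh.push i).map_isZero h0)]
  letI : Z.Over (Spec (CommRingCat.of κ)) := ⟨i ≫ (π.fiber y ↘ Spec (CommRingCat.of κ))⟩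
  haveI : IsProper (Z ↘ Spec (CommRingCat.of κ)) :=
    inferInstanceAs (IsProper (i ≫ (π.fiber y ↘ Spec (CommRingCat.of κ))))
  have hA : CohB1.IsAmple ((Scheme.Modules.pullback i).obj ((Scheme.Modules.pullback (π.fiberι y)).obj L)) :=
    Amp.isAmple_pullback_of_isAffineHom _ hL'
  have hdZ : topologicalKrullDim Z ≤ (d : WithBot ℕ∞) := by
    refine le_trans ?_ hdim
    have hmem : ∀ z : Z, i z ∈ CohB1.support ((Coh.push i).obj I) := fun z => by
      show ¬ Subsingleton _
      intro hs
      exact hsupp.ge (Set.mem_univ z) (@Equiv.subsingleton _ _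
        (Equiv.ofBijective _ (CohFound.bijective_pushStalk i I z)).symm hs)
    exact (Topology.IsInducing.codRestrict i.isEmbedding.isInducing hmem).topologicalKrullDim_le
  obtain ⟨-, hpos⟩ := hdata Z i hi hZ _ hA d hdZ le_rfl
  let c := PBK5.pullHom (i ≫ π.fiberι y) z
  have key : ∀ a : SGA6.Kvb (π.fiber y), chiK κ hN a = chiK κ hIc (PBK5.pullHom i a) := by
    intro a
    induction a using K0Cat.clSub_induction with
    | h0 => simp
    | hneg b hb => simp [hb]
    | hadd b c hb hc => simp [hb, hc]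
    | hcl B hB =>
      change chiK κ hN (cl B) = chiK κ hIc (PBK5.pullHom i (cl B))
      have hB' := M2.isFinLocFree_pullback i hB
      rw [chiK_cl κ hN hB, PBK5.pullHom_cl i hB, chiK_cl κ hIc hB',
        CurveCoh17.euler_iso (M2.tensorComm ((Coh.push i).obj I) B ≪≫ (PBK5.pushPullIso i hB I).symm),
        AmpleFin18.euler_push i rfl _ (coh_tensor_vb (CohFound.isCoh_of_isFinLocFree hB') hB' |> fun _ =>
          M2.isQCoh_tensor (PBK5.qcoh_of_vb hB') hI)]
      exact CurveCoh17.euler_iso (M2.tensorComm _ _)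
  rw [key, ← PBK5.pullHom_comp]
  -- the quotient by the ideal has smaller support
  let Q := cokernel ι
  have hS : (ShortComplex.mk ι (cokernel.π ι) (cokernel.condition ι)).ShortExact :=
    ShortComplex.ShortExact.mk' (ShortComplex.exact_cokernel ι) hι inferInstance
  have hQ : Coh.IsCoh Q := M1.isCoh_cokernel hI (M1.isCoh_structureModule Z) ι
  have hsum := chiK_add κ hS hIc (M1.isCoh_structureModule Z) hQ c
  obtain ⟨hQe, hQd⟩ := dim_support_cokernel_le ι hIc hsupp hdZ
  have hQ0 : chiK κ hQ c = 0 := by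
    rcases Nat.eq_zero_or_eq_succ_pred d with hd0 | hd1
    · exact chiK_isZero κ hQ (Snapper.isZero_of_support_empty (hQe hd0)) c
    refine chiK_eq_zero κ (d := d.pred) (fun Z' i' hi' hZ' he' => ?_) hQ (hQd _ hd1)
    haveI := hi'
    have hA' : CohB1.IsAmple ((Scheme.Modules.pullback (i' ≫ i)).obj
        ((Scheme.Modules.pullback (π.fiberι y)).obj L)) := Amp.isAmple_pullback_of_isAffineHom _ hL'
    rw [← PBK5.pullHom_comp, ← Category.assoc]
    exact (hdata Z' (i' ≫ i) inferInstance hZ' _ hA' d.pred he' (by omega)).1 (by omega)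
  rw [hQ0, add_zero] at hsum
  rw [← hsum]
  exact hpos

end Groth.Agent.IntShRes5
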