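import Groth.Agent.Lib.IntShRes5.Aug
import Groth.Agent.Lib.PBK5.Free
import Groth.Agent.Lib.AmpleFin18.PushEuler
import Groth.Agent.Lib.CMReg18.RegPn

/-! Euler characteristics on a bundle of projective spaces. -/

set_option autoImplicit false
set_option linter.style.haveILetI false
set_option backward.isDefEq.respectTransparency false
set_option backward.isDefEq.respectTransparency.types false
set_option maxHeartbeats 800000
set_option synthInstance.maxHeartbeats 100000

universe u

open CategoryTheory CategoryTheory.Limits AlgebraicGeometry TopologicalSpace Opposite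

noncomputable section

namespace Groth.Agent.IntShRes5

open Groth.Agent
open Groth.Agent.CohFound
open Groth.Agent.ExtFil4 (cl)

attribute [local instance] ExtFil4.kvbRing

variable (k : Type u) [Field k]

/-- The cohomology of a direct image, when the higher direct images vanish. -/
theorem nonempty_HH_push_acyc {X Y : Scheme.{u}} [X.Over (Spec (CommRingCat.of k))]
    [Y.Over (Spec (CommRingCat.of k))] (f : X ⟶ Y) [QuasiCompact f] [QuasiSeparated f]
    (hf : f ≫ (Y ↘ Spec (CommRingCat.of k)) = X ↘ Spec (CommRingCat.of k))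
    (M : X.Modules) (hM : Coh.IsQCoh M) (hA : PBK5.Acyc f M) (n : ℕ) :
    Nonempty (Coh.HH Y ((Scheme.Modules.pushforward f).obj M) n ≃ₗ[k] Coh.HH X M n) := by
  let φ : k →+* Γ(Y, ⊤) := Coh.toGlobal (Y ↘ Spec (CommRingCat.of k))
  let ψ : k →+* Γ(X, ⊤) := Coh.toGlobal (X ↘ Spec (CommRingCat.of k))
  have hψ : ∀ a, f.appTop (φ a) = ψ a := fun a => by
    have h := ConcreteCategory.congr_hom (congrArg Scheme.Hom.appTop hf)
      ((Scheme.ΓSpecIso (CommRingCat.of k)).inv a)
    exact h
  have hacyc : PushAcyclicUpTo (f.base : sp X ⟶ sp Y) Y.affineOpens n ((abF X).obj M) := by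
    intro q _ V hV
    obtain ⟨e⟩ := nonempty_sections_rpushAb f hM (q + 1) hV
    have h := hA (q + 1) (by omega)
    change IsZero ((CohTop.Rpush (f.base : sp X ⟶ sp Y) (q + 1)).obj ((abF X).obj M)) at h
    exact @Equiv.subsingleton _ _ e.toEquiv.symm (AddCommGrpCat.subsingleton_of_isZero
      ((sheafToPresheaf _ _ ⋙ (evaluation _ _).obj (op V)).map_isZero h))
  obtain ⟨ε, hε⟩ := exists_hc_push_commute (f.base : sp X ⟶ sp Y) Y.isBasis_affineOpens n ((abF X).obj M) hacyc ⊤
  let T := (mpEquiv (abFPushIso f M) n ⊤).trans ε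
  have hT : ∀ a x, T (gMul ((Scheme.Modules.pushforward f).obj M) (φ a) n ⊤ x) = gMul M (ψ a) n ⊤ (T x) := fun a x => by
    rw [← hψ a]
    exact trans_commute (abFPushIso f M) n ⊤ ε _ _ _ (abFPushIso_gEnd f M (φ a)) (hε (gEnd M (f.appTop (φ a)))) x
  let E : Coh.HH Y ((Scheme.Modules.pushforward f).obj M) n ≃+ Coh.HH X M n :=
    (hhExt _ n).trans (T.trans (hhExt M n).symm)
  refine ⟨{ E with map_smul' := fun a x => ?_ }⟩
  show E (a • x) = a • E x
  apply (hhExt M n).injective
  simp only [E, AddEquiv.trans_apply, AddEquiv.apply_symm_apply]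
  have h1 : hhExt ((Scheme.Modules.pushforward f).obj M) n (a • x) =
      gMul ((Scheme.Modules.pushforward f).obj M) (φ a) n ⊤ (hhExt _ n x) :=
    hExt_map (gEnd _ (φ a)) n x
  have h2 : hhExt M n (a • (hhExt M n).symm (T (hhExt _ n x))) =
      gMul M (ψ a) n ⊤ (hhExt M n ((hhExt M n).symm (T (hhExt _ n x)))) :=
    hExt_map (gEnd M (ψ a)) n _
  refine (congrArg (fun z => hhExt M n ((hhExt M n).symm (T z))) h1).trans ?_
  exact ((hhExt M n).apply_symm_apply _).trans ((hT a _).trans
    (h2.trans (congrArg (gMul M (ψ a) n ⊤) ((hhExt M n).apply_symm_apply _))).symm)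

/-- The Euler characteristic of a direct image, when the higher direct images vanish. -/
theorem euler_push_acyc {X Y : Scheme.{u}} [X.Over (Spec (CommRingCat.of k))]
    [Y.Over (Spec (CommRingCat.of k))] (f : X ⟶ Y) [QuasiCompact f] [QuasiSeparated f]
    (hf : f ≫ (Y ↘ Spec (CommRingCat.of k)) = X ↘ Spec (CommRingCat.of k))
    (M : X.Modules) (hM : Coh.IsQCoh M) (hA : PBK5.Acyc f M) :
    Curv2.euler k Y ((Scheme.Modules.pushforward f).obj M) = Curv2.euler k X M :=
  finsum_congr fun n => by rw [(nonempty_HH_push_acyc k f hf M hM hA n).some.finrank_eq]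

variable {W : Scheme.{u}} [W.Over (Spec (CommRingCat.of k))] [IsProper (W ↘ Spec (CommRingCat.of k))]

variable (W) in
/-- The Euler characteristic of classes of bundles. -/
def chi0 : SGA6.Kvb W →+ ℤ := chiK k (M1.isCoh_structureModule W)

theorem chi0_cl {E : W.Modules} (hE : FlatMod.IsFinLocFree E) : chi0 k W (cl E) = Curv2.euler k W E :=
  (chiK_cl k _ hE).trans (CurveCoh17.euler_iso (M2.tensorLUnit E))

variable {T P : Scheme.{u}} [T.Over (Spec (CommRingCat.of k))] [IsProper (T ↘ Spec (CommRingCat.of k))]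
  [P.Over (Spec (CommRingCat.of k))] [IsProper (P ↘ Spec (CommRingCat.of k))] {π : P ⟶ T}
  {V : PBK5.Tw P} {n : ℕ}

/-- The Euler characteristics of the spanning classes. -/
theorem chi0_basis [CompactSpace T] (hπ : π ≫ (T ↘ Spec (CommRingCat.of k)) = P ↘ Spec (CommRingCat.of k))
    (h : PBK5.IsPB π V n) (K : PBK5.KosData π V n) (a : SGA6.Kvb T) {i : ℕ} (hi : i ≤ n) :
    chi0 k P (PBK5.pullHom π a * PBK5.xi V (-(i : ℤ))) = if i = 0 then chi0 k T a else 0 := by
  induction a using K0Cat.clSub_induction with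
  | h0 => simp
  | hneg b hb => rw [map_neg, neg_mul, map_neg, hb, map_neg]; split_ifs <;> simp
  | hadd b c hb hc => rw [map_add, add_mul, map_add, hb, hc, map_add]; split_ifs <;> simp
  | hcl N hN =>
    haveI := h.isProper
    have hG : PBK5.Good π (V.O (-(i : ℤ))) := PBK5.good_O h K (by omega)
    have h2 := PBK5.Good.pull_tensor h hN hG
    change chi0 k P (PBK5.pullHom π (cl N) * PBK5.xi V (-(i : ℤ))) = if i = 0 then chi0 k T (cl N) else 0
    rw [PBK5.pullHom_cl π hN, PBK5.xi, PBK5.cl_mul (M2.isFinLocFree_pullback π hN) hG.1, chi0_cl k h2.1,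
      ← euler_push_acyc k π hπ _ (PBK5.qcoh_of_vb h2.1) h2.2.1, ← chi0_cl k h2.2.2]
    change chi0 k T (PBK5.pcl π _) = _
    rw [PBK5.pcl_pull_tensor hN hG]
    split_ifs with h0
    · subst h0
      rw [show PBK5.pcl π (V.O (-((0 : ℕ) : ℤ))) = PBK5.hcl π V 0 from congrArg (PBK5.hcl π V) (by simp),
        PBK5.hcl_zero h K, mul_one]
    · rw [← PBK5.hcl, PBK5.hcl_neg h (by omega) (by omega), mul_zero, map_zero]

end Groth.Agent.IntShRes5
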