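import Groth.Agent.Lib.IntShRes5.PosEuler
import Groth.Agent.Lib.PBK5.Segre
import Groth.Agent.Lib.PBK5.Conn
import Groth.Agent.Lib.Lambda.ChernChar
import Groth.Agent.Lib.PBK5.DimFil
import Groth.Agent.Lib.NumPoly18.SecImageGrowth
import Groth.Agent.Lib.NumPoly18.Kleiman
import Groth.Agent.Lib.TensorMod.LiftLocal
import Groth.Agent.Lib.EnriquesSeveri11.DualSeq

/-! Positivity of the top Chern class of a generated bundle. -/

set_option autoImplicit false
set_option linter.style.haveILetI false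
set_option backward.isDefEq.respectTransparency false
set_option backward.isDefEq.respectTransparency.types false
set_option maxHeartbeats 800000
set_option synthInstance.maxHeartbeats 100000

universe v u

open CategoryTheory CategoryTheory.Limits AlgebraicGeometry TopologicalSpace Opposite LambdaRing

noncomputable section

namespace Groth.Agent.IntShRes5

open Groth.Agent
open Groth.Agent.ExtFil4 (cl)

attribute [local instance] ExtFil4.kvbRing

/-- Inverting the Segre relation in top degree. -/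
theorem seg_inverse {K : Type v} [CommRing K] [LambdaOps K] (P : PosStructure K) {a b : K} (hab : a + b = 0)
    (haa : P.aug a = 0) {n d : ℕ} (han : ∀ m, n + 1 < m → gamma m a = 0)
    (hbot : gammaFiltration P (d + 1) = ⊥) (χ : K →+ ℤ) (Ψ : ℕ → K → ℤ)
    (hbase : ∀ c, Ψ n c = χ c) (hzero : ∀ l, Ψ l 0 = 0)
    (hrel : ∀ i c, ∑ k ∈ Finset.range (n + 2), Ψ (i + k) (gamma (n + 1 - k) a * c) = 0) :
    ∀ j : ℕ, j ≤ d → ∀ c ∈ gammaFiltration P (d - j), Ψ (n + j) c = χ (gamma j b * c) := by
  intro j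
  induction j using Nat.strong_induction_on with
  | _ j ih =>
    intro hjd c hc
    rcases Nat.eq_zero_or_pos j with rfl | hj
    · rw [add_zero, hbase, Lambda.gamma_zero, one_mul]
    let T : ℕ → ℤ := fun l => if l + 1 ≤ j then χ (gamma (l + 1) a * gamma (j - (l + 1)) b * c) else 0
    have hterm : ∀ l ∈ Finset.range (n + 1), Ψ (j - 1 + (n - l)) (gamma (n + 1 - (n - l)) a * c) = T l := by
      intro l hl
      rw [Finset.mem_range] at hl
      rw [show n + 1 - (n - l) = l + 1 by omega]
      have hmem := Lambda.mul_mem_gammaFiltration P (l + 1) (d - j) _ _ (Lambda.gamma_mem haa (l + 1)) hc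
      by_cases hlj : l + 1 ≤ j
      · rw [show j - 1 + (n - l) = n + (j - (l + 1)) by omega]
        simp only [T, if_pos hlj]
        rw [ih (j - (l + 1)) (by omega) (by omega) _ (by rwa [show d - (j - (l + 1)) = l + 1 + (d - j) by omega]),
          show gamma (j - (l + 1)) b * (gamma (l + 1) a * c) = gamma (l + 1) a * gamma (j - (l + 1)) b * c by ring]
      · simp only [T, if_neg hlj]
        have h0 := Lambda.gammaFiltration_anti P (show d + 1 ≤ l + 1 + (d - j) by omega) hmem
        rw [hbot, AddSubgroup.mem_bot] at h0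
        rw [h0, hzero]
    have hsum : ∑ l ∈ Finset.range (n + 1), T l = ∑ l ∈ Finset.range j, T l := by
      rw [Finset.sum_subset (Finset.range_subset_range.2 (le_max_left (n + 1) j)) (fun l _ hl => ?_),
        ← Finset.sum_subset (Finset.range_subset_range.2 (le_max_right (n + 1) j)) (fun l _ hl => ?_)]
      · simp only [Finset.mem_range] at hl
        simp only [T, if_neg (show ¬ l + 1 ≤ j by omega)]
      · simp only [Finset.mem_range] at hl
        simp only [T]
        split_ifs
        · rw [han (l + 1) (by omega), zero_mul, zero_mul, map_zero]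
        · rfl
    have hg := Lambda.gamma_add j a b
    rw [hab, Lambda.gamma_zero_right, if_neg (by omega), Finset.sum_range_succ', Lambda.gamma_zero, one_mul,
      Nat.sub_zero] at hg
    have hχ := congrArg (fun z => χ (z * c)) hg
    simp only [zero_mul, map_zero, add_mul, map_add, Finset.sum_mul, map_sum] at hχ
    have hT : ∑ l ∈ Finset.range j, χ (gamma (l + 1) a * gamma (j - (l + 1)) b * c) = ∑ l ∈ Finset.range j, T l :=
      Finset.sum_congr rfl fun l hl => by
        rw [Finset.mem_range] at hl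
        simp only [T, if_pos (show l + 1 ≤ j by omega)]
    have h := hrel (j - 1) c
    rw [Finset.sum_range_succ, Nat.sub_self, Lambda.gamma_zero, one_mul,
      show j - 1 + (n + 1) = n + j by omega,
      ← Finset.sum_range_reflect (fun k => Ψ (j - 1 + k) (gamma (n + 1 - k) a * c)) (n + 1)] at h
    simp only [show n + 1 - 1 = n from rfl] at h
    rw [Finset.sum_congr rfl hterm, hsum, ← hT] at h
    linarith

/-- A free module of larger rank maps onto a free module. -/
theorem exists_epi_freeMod (X : Scheme.{u}) (a b : ℕ) :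
    ∃ p : FlatMod.freeMod X (a + b) ⟶ FlatMod.freeMod X a, Epi p := by
  let f : Fin (a + b) → (Coh.structureModule X ⟶ FlatMod.freeMod X a) := fun i =>
    if h : (i : ℕ) < a then Sigma.ι (fun _ : Fin a => Coh.structureModule X) ⟨i, h⟩ else 0
  refine ⟨Sigma.desc f, SplitEpi.mk (Sigma.desc fun i : Fin a =>
    Sigma.ι (fun _ : Fin (a + b) => Coh.structureModule X) (Fin.castAdd b i)) ?_ |>.epi⟩
  refine Sigma.hom_ext _ _ fun i => ?_
  simp [f, i.isLt]

section Dual

variable {T P : Scheme.{u}} [IsNoetherian T] {π : P ⟶ T} {E : T.Modules} {O1 Om : P.Modules}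
  {q : (Scheme.Modules.pullback π).obj E ⟶ O1} {n : ℕ}
  {KT : Type v} [CommRing KT] [LambdaOps KT] {PT : PosStructure KT} {φT : SGA6.Kvb T →+ KT}
  {KP : Type v} [CommRing KP] [LambdaOps KP] {PP : PosStructure KP} {φP : SGA6.Kvb P →+ KP}

/-- The pulled back dual is `O(-1)` plus a bundle of rank `n`. -/
theorem exists_dual_split' (hP' : KRR.IsModel P KP PP φP) (hP : KRR.IsProjBundle π E O1 q)
    (hE : FlatMod.IsFinLocFreeOfRank (n + 1) E) (hOOm : ClSub.IsInverseOf O1 Om) :
    ∃ Q : KP, φP (PBK5.pullHom π (cl (CohMop.dual E))) = φP (KRR.cl P Om) + Q ∧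
      ∀ m, n < m → gamma m (Q - (n : KP)) = 0 := by
  have hEl := M2.isFinLocFree_of_ofRank hE
  haveI := hP.epi
  have hO1 := (M2.isInvertible_iff_isFinLocFreeOfRank_one _).2 hP.invertible
  have hS : (ShortComplex.mk (kernel.ι q) q (kernel.condition q)).ShortExact :=
    ShortComplex.ShortExact.mk' (ShortComplex.exact_kernel q) inferInstance hP.epi
  have hN : FlatMod.IsFinLocFreeOfRank n (kernel q) :=
    Cyc26Split.isFinLocFreeOfRank_kernel _ _ _ hS (M2.isFinLocFreeOfRank_pullback π hE) hP.invertible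
  have hNl := M2.isFinLocFree_of_ofRank hN
  have hO1l := M2.isFinLocFree_of_ofRank hP.invertible
  have hPl := M2.isFinLocFree_pullback π hEl
  refine ⟨φP (KRR.cl P (CohMop.dual (kernel q))), ?_, fun m hm => ?_⟩
  · obtain ⟨i⟩ := PBK5.Segre.nonempty_pullback_dual (π := π) hEl
    obtain ⟨e⟩ := S16492.Aux.dual_iso (A := E) (LFResK5.isCoh_of_isFinLocFree hEl)
    have hdl : FlatMod.IsFinLocFree (CohMop.dual E) := CohMop.isFinLocFree_dual hEl
    rw [← map_add]
    refine congrArg φP ?_
    rw [PBK5.pullHom_cl π hdl, PBK5.cl_congr ((Scheme.Modules.pullback π).mapIso e ≪≫ i) (M2.isFinLocFree_pullback π hdl)]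
    have hd := ES11.shortExact_dual hS hO1l
    refine (PBK5.cl_ses _ hd (CohMop.isFinLocFree_dual hO1l) (CohMop.isFinLocFree_dual hPl)
      (CohMop.isFinLocFree_dual hNl)).trans ?_
    refine congrArg (fun z => z + cl (CohMop.dual (kernel q))) ?_
    obtain ⟨j⟩ := ES11.nonempty_dual_iso_of_inverse hO1 hOOm.some
    exact PBK5.cl_congr j (CohMop.isFinLocFree_dual hO1l)
  · rcases Nat.eq_zero_or_pos n with rfl | hn
    · have hz : IsZero (CohMop.dual (kernel q)) := AmpleElt5.isZero_of_rank_zero (PBK5.Segre.rank_dual hN)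
      rw [show KRR.cl P (CohMop.dual (kernel q)) = 0 from PBK5.cl_of_isZero hz, map_zero, Nat.cast_zero, sub_zero,
        Lambda.gamma_zero_right, if_neg (by omega)]
    · exact PBK5.Segre.gamma_eq_zero_of_pos PP ((hP'.mem_pos_iff _).2 ⟨n, _, hn, PBK5.Segre.rank_dual hN, rfl⟩)
        (hP'.aug_cl n _ (PBK5.Segre.rank_dual hN)) hm

end Dual

/-- Powers of the class of `O(-1)`. -/
theorem cl_pow' {P : Scheme.{u}} {V : PBK5.Tw P} {Om : P.Modules} {KP : Type v} [CommRing KP] [LambdaOps KP]
    {PP : PosStructure KP} {φP : SGA6.Kvb P →+ KP} (hKP : KRR.IsModel P KP PP φP) (e : V.O (-1) ≅ Om) (j : ℕ) :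
    φP (KRR.cl P Om) ^ j = φP (PBK5.xi V (-(j : ℤ))) := by
  induction j with
  | zero => rw [pow_zero, Nat.cast_zero, neg_zero, PBK5.xi_zero]; exact (map_one (PBK5.modelHom hKP)).symm
  | succ j ih =>
    rw [pow_succ, ih, show KRR.cl P Om = PBK5.xi V (-1) from (PBK5.cl_congr e (PBK5.vb_O (W := V) (-1))).symm,
      show (-((j + 1 : ℕ) : ℤ)) = -(j : ℤ) + -1 by push_cast; ring, ← PBK5.xi_add]
    exact (map_mul (PBK5.modelHom hKP) _ _).symm

section Field

variable (k : Type u) [Field k] {W : Scheme.{u}} [W.Over (Spec (CommRingCat.of k))]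
  [IsProper (W ↘ Spec (CommRingCat.of k))]

theorem chiK_tensor {M L : W.Modules} (hM : Coh.IsCoh M) (hL : FlatMod.IsFinLocFree L) (c : SGA6.Kvb W) :
    chiK k (coh_tensor_vb hM hL) c = chiK k hM (cl L * c) := by
  induction c using K0Cat.clSub_induction with
  | h0 => simp
  | hneg b hb => rw [mul_neg, map_neg, map_neg, hb]
  | hadd b c hb hc => rw [mul_add, map_add, map_add, hb, hc]
  | hcl E hE =>
    change chiK k (coh_tensor_vb hM hL) (cl E) = chiK k hM (cl L * cl E)
    rw [PBK5.cl_mul hL hE, chiK_cl k _ hE, chiK_cl k hM (M2.isFinLocFree_tensor hL hE)]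
    exact CurveCoh17.euler_iso (M2.tensorAssoc M L E)

/-- Self-intersections as Euler characteristics of classes. -/
theorem md_const_eq {L : W.Modules} (hL : PicF.IsInvertible L) :
    ∀ (r : ℕ) {F : W.Modules} (hF : Coh.IsCoh F),
      NumPoly18.md k (fun _ : Fin r => L) F = (chiK k hF ((cl L - 1) ^ r) : ℚ)
  | 0, F, hF => by
    rw [NumPoly18.md_zero_vars, pow_zero,
      show (1 : SGA6.Kvb W) = cl (Coh.structureModule W) from PBK5.cl_one.symm,
      chiK_cl k hF (M2.isFinLocFree_of_isInvertible (PicLoc.isInvertible_structureModule W)),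
      CurveCoh17.euler_iso (M2.tensorRUnit F)]
  | r + 1, F, hF => by
    have hLf := M2.isFinLocFree_of_isInvertible hL
    rw [NumPoly18.const_eq_cons, NumPoly18.md_cons, md_const_eq hL r (coh_tensor_vb hF hLf), md_const_eq hL r hF,
      chiK_tensor k hF hLf, ← Int.cast_sub, ← map_sub, ← sub_one_mul, ← pow_succ']

/-- The top self-intersection of the tautological class of a generated line bundle. -/
theorem chi0_delta_pow_nonneg [ConnectedSpace W] {L M : W.Modules} (hL : PicF.IsInvertible L)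
    (hLM : ClSub.IsInverseOf L M) (hM : PicF.IsInvertible M) (hgg : Curv2.IsGloballyGenerated L) {A : W.Modules}
    (hA : CohB1.IsAmple A) {r : ℕ} (hd : topologicalKrullDim W ≤ (r : WithBot ℕ∞)) :
    0 ≤ chi0 k W ((1 - cl M) ^ r) := by
  haveI : IsNoetherian W := CohFound.isNoetherian_of_isProper (W ↘ (Spec (CommRingCat.of k)))
  have hO := M1.isCoh_structureModule W
  obtain ⟨e⟩ := hLM
  have hu : cl L * cl M = 1 := (PBK5.cl_mul (M2.isFinLocFree_of_isInvertible hL)
    (M2.isFinLocFree_of_isInvertible hM)).trans ((PBK5.cl_congr e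
      (M2.isFinLocFree_tensor (M2.isFinLocFree_of_isInvertible hL) (M2.isFinLocFree_of_isInvertible hM))).trans PBK5.cl_one)
  have hI : (cl L - 1) ^ r = (1 - cl M) ^ r := by
    have h1 : cl L - 1 = cl L * (1 - cl M) := by rw [mul_sub, hu, mul_one]
    have h0 : (1 - cl M) ^ r * (cl L ^ r - 1) ∈ PBK5.lineIdeal W ^ (r + 1) := by
      rw [pow_succ]
      refine Ideal.mul_mem_mul (Ideal.pow_mem_pow ?_ r) ?_
      · simpa using neg_mem (PBK5.cl_sub_one_mem hM)
      · rw [← geom_sum_mul]
        exact Ideal.mul_mem_left _ _ (PBK5.cl_sub_one_mem hL)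
    rw [PBK5.lineIdeal_pow_eq_bot hA hd (Nat.lt_succ_self r), Ideal.mem_bot, mul_sub, mul_one, sub_eq_zero] at h0
    rw [h1, mul_pow, mul_comm, h0]
  have hn : NumPoly18.Nef k L := by
    obtain ⟨ι, p, hp⟩ := hgg
    exact NumPoly18.nef_of_semiample hL one_pos ⟨ι, p ≫ (M2.tensorPowOne L).inv, epi_comp _ _⟩ hA
  have h := NumPoly18.md_nonneg_of_nef (k := k) hA (M := fun _ : Fin r => L) (fun _ => hL) (fun _ => hn) hO
    (Topology.IsInducing.subtypeVal.topologicalKrullDim_le.trans hd)
  rw [md_const_eq k hL r hO, hI] at h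
  exact_mod_cast h

end Field

set_option maxHeartbeats 3200000 in
/-- Positivity of the top Chern class of a generated bundle of rank `d + 1` in dimension `d`. -/
theorem chi0_gamma_nonneg (k : Type u) [Field k] {Z : Scheme.{u}} [Z.Over (Spec (CommRingCat.of k))]
    [IsProper (Z ↘ Spec (CommRingCat.of k))] [ConnectedSpace Z] {A : Z.Modules} (hA : CohB1.IsAmple A) {d : ℕ}
    (hd : topologicalKrullDim Z ≤ (d : WithBot ℕ∞)) {E : Z.Modules}
    (hE : FlatMod.IsFinLocFreeOfRank (d + 1) E) {N : ℕ} (q : FlatMod.freeMod Z N ⟶ E) [Epi q]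
    {K : Type (u + 1)} [CommRing K] [LambdaOps K] {PK : PosStructure K} {φ : SGA6.Kvb Z →+ K}
    (hK : KRR.IsModel Z K PK φ) {z : SGA6.Kvb Z} (hz : φ z = gamma d (φ (cl E) - ((d + 1 : ℕ) : K))) :
    0 ≤ chi0 k Z z := by
  haveI : IsNoetherian Z := CohFound.isNoetherian_of_isProper (Z ↘ (Spec (CommRingCat.of k)))
  obtain ⟨x₀⟩ := (inferInstance : Nonempty Z)
  -- a presentation with a kernel of positive rank
  obtain ⟨p, hp⟩ := exists_epi_freeMod Z N (d + 2)
  let F₀ := FlatMod.freeMod Z (N + (d + 2))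
  let f : F₀ ⟶ E := p ≫ q
  haveI : Epi f := epi_comp _ _
  have hS : (ShortComplex.mk (kernel.ι f) f (kernel.condition f)).ShortExact :=
    ShortComplex.ShortExact.mk' (ShortComplex.exact_kernel f) inferInstance inferInstance
  have hF₀ : FlatMod.IsFinLocFree F₀ := M2.isFinLocFree_of_ofRank (FormalH7.isFinLocFreeOfRank_freeMod Z _)
  have hEl := M2.isFinLocFree_of_ofRank hE
  have hKl : FlatMod.IsFinLocFree (kernel f) := DPerf.isFinLocFree_kernel _ _ _ hS hF₀ hEl
  have hsum : φ (cl F₀) = φ (cl (kernel f)) + φ (cl E) := by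
    rw [← map_add]; exact congrArg φ (PBK5.cl_ses _ hS hKl hF₀ hEl)
  rw [show cl F₀ = KRR.cl Z F₀ from rfl, AmpleElt5.cl_freeMod hK] at hsum
  have hrk : FlatMod.IsFinLocFreeOfRank (N + 1) (kernel f) := by
    have h := KModel5.exists_rank x₀ hKl
    have ha := congrArg PK.aug hsum
    rw [map_natCast, map_add, hK.aug_cl _ _ h, hK.aug_cl _ _ hE] at ha
    have : KModel5.rk x₀ (kernel f) = N + 1 := by push_cast at ha; omega
    rwa [this] at h
  -- the bundle of the dual of the kernel
  let E' := CohMop.dual (kernel f)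
  have hE' : FlatMod.IsFinLocFreeOfRank (N + 1) E' := PBK5.Segre.rank_dual hrk
  obtain ⟨P, π, O1, r, hP, -, hprop, -⟩ := Cyc26Split.exists_projBundle hE'
  have hO1 := (M2.isInvertible_iff_isFinLocFreeOfRank_one _).2 hP.invertible
  obtain ⟨Om, hOm, hOOm⟩ := M2.exists_inverse hO1
  obtain ⟨V, hV, ⟨eV⟩, -, Ks, -⟩ := PBK5.Segre.exists_setup hP hE' hOOm
  letI : P.Over (Spec (CommRingCat.of k)) := ⟨π ≫ (Z ↘ Spec (CommRingCat.of k))⟩
  haveI : IsProper (P ↘ Spec (CommRingCat.of k)) :=
    inferInstanceAs (IsProper (π ≫ (Z ↘ Spec (CommRingCat.of k))))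
  haveI : IsNoetherian P := CohFound.isNoetherian_of_isProper (P ↘ (Spec (CommRingCat.of k)))
  haveI : ConnectedSpace P := hV.connectedSpace
  obtain ⟨A', hA'⟩ := PBK5.exists_ample_projBundle hP hE' hA
  have hdP : topologicalKrullDim P ≤ ((d + N : ℕ) : WithBot ℕ∞) := PBK5.dim_projBundle_le hP hE' hd
  obtain ⟨KP, j1, j2, PP, φP, hKP⟩ := KModel5.exists_model P
  obtain ⟨Q, hQ, hQ'⟩ := exists_dual_split' hKP hP hE' hOOm
  have hbd : φ (cl (CohMop.dual E')) = φ (cl (kernel f)) := by
    haveI : ModSite.HasSheafHom (O := Z.sheaf) (kernel f) := CohMop.isLeftAdjoint_tenR (kernel f)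
    haveI := CohMop.isIso_bidual hKl
    exact congrArg φ (PBK5.cl_congr (asIso (CohMop.bidual (kernel f))).symm
      (CohMop.isFinLocFree_dual (M2.isFinLocFree_of_ofRank hE')))
  let ψ := AddEquiv.ofBijective φ hK.bijective
  let g : K →+ KP := (φP.comp (PBK5.pullHom π).toAddMonoidHom).comp ψ.symm.toAddMonoidHom
  have hg : KRR.IsPull π φ φP g := fun B hB => by
    show φP (PBK5.pullHom π (ψ.symm (φ (KRR.cl Z B)))) = _
    rw [show ψ.symm (φ (KRR.cl Z B)) = KRR.cl Z B from ψ.symm_apply_apply _]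
    exact congrArg φP (PBK5.pullHom_cl π hB)
  let h := PBK5.pullRingHom hK hKP hg
  have hh : ∀ c, h (φ c) = φP (PBK5.pullHom π c) := fun c => PBK5.isPull_apply hg c
  let u := φP (KRR.cl P Om)
  let μ := AddEquiv.ofBijective φP hKP.bijective
  let χP : KP →+ ℤ := (chi0 k P).comp μ.symm.toAddMonoidHom
  let χ : K →+ ℤ := (chi0 k Z).comp ψ.symm.toAddMonoidHom
  have hχ : ∀ c, χ (φ c) = chi0 k Z c := fun c => congrArg (chi0 k Z) (ψ.symm_apply_apply c)
  have hχP : ∀ c, χP (φP c) = chi0 k P c := fun c => congrArg (chi0 k P) (μ.symm_apply_apply c)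
  have hu : ∀ j : ℕ, u ^ j = φP (PBK5.xi V (-(j : ℤ))) := cl_pow' hKP eV
  have hbase : ∀ c : K, χP (h c * (1 - u) ^ N) = χ c := by
    intro c
    obtain ⟨a, rfl⟩ := hK.bijective.2 c
    have hexp : (1 - u) ^ N = ∑ j ∈ Finset.range (N + 1), (((-1 : ℤ) ^ j * (N.choose j : ℤ)) • u ^ j) := by
      rw [show 1 - u = -u + 1 by ring, add_pow]
      refine Finset.sum_congr rfl fun j _ => ?_
      rw [zsmul_eq_mul]
      push_cast
      rw [neg_pow, one_pow]
      ring
    rw [hexp, Finset.mul_sum, map_sum, hχ, Finset.sum_eq_single 0 (fun j hj hj0 => ?_) (by simp)]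
    · rw [pow_zero, pow_zero, Nat.choose_zero_right, Nat.cast_one, one_mul, one_smul, hh, mul_one, hχP]
      have := chi0_basis k (π := π) rfl hV Ks a (Nat.zero_le N)
      rwa [if_pos rfl, Nat.cast_zero, neg_zero, PBK5.xi_zero, mul_one] at this
    · rw [Finset.mem_range] at hj
      rw [mul_smul_comm, map_zsmul, hu, hh, ← PBK5.modelHom_apply hKP, ← PBK5.modelHom_apply hKP, ← map_mul,
        PBK5.modelHom_apply hKP, hχP, chi0_basis k (π := π) rfl hV Ks a (by omega), if_neg hj0, smul_zero]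
  have hrel0 := PBK5.Segre.gamma_rel PP (PBK5.isLine_cl hKP hOm) N hQ'
  let a := φ (cl (kernel f)) - ((N + 1 : ℕ) : K)
  let b := φ (cl E) - ((d + 1 : ℕ) : K)
  have hab : a + b = 0 := by
    simp only [a, b]; push_cast at hsum ⊢; linear_combination -hsum
  have haa : PK.aug a = 0 := by
    simp only [a]; rw [map_sub, map_natCast, hK.aug_cl _ _ hrk]; simp
  have hga : ∀ m, N + 1 < m → gamma m a = 0 := fun m hm =>
    PBK5.Segre.gamma_eq_zero_of_pos PK ((hK.mem_pos_iff _).2 ⟨_, _, Nat.succ_pos N, hrk, rfl⟩)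
      (hK.aug_cl _ _ hrk) hm
  have hha : ∀ m, h (gamma m a) = gamma m (u + Q - ((N + 1 : ℕ) : KP)) := by
    intro m
    rw [Lambda.gamma_map h (fun j x => PBK5.pull_lam hK hKP hg j x)]
    congr 1
    simp only [a]
    rw [map_sub, map_natCast, ← hbd, hh, hQ]
  have key := seg_inverse PK hab haa hga (PBK5.gammaFiltration_eq_bot hA hd hK) χ
    (fun l c => χP (h c * (1 - u) ^ l)) hbase (fun l => by simp) (fun i c => ?_) d le_rfl 1
    (by rw [Nat.sub_self]; exact Lambda.mem_filtration_zero 1)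
  · simp only [mul_one, map_one, one_mul] at key
    rw [← hχ, hz, ← key]
    have hzp : φP ((1 - cl Om) ^ (N + d)) = (1 - u) ^ (N + d) := by
      rw [← PBK5.modelHom_apply hKP, map_pow, map_sub, map_one, PBK5.modelHom_apply hKP]
    rw [← hzp, hχP]
    refine chi0_delta_pow_nonneg k hO1 hOOm hOm ?_ hA' (by rwa [add_comm])
    -- O(1) is generated
    have hd' := ES11.shortExact_dual hS hEl
    haveI := hd'.epi_g
    haveI := hP.epi
    obtain ⟨j⟩ := CohMop.nonempty_dual_freeMod (X := Z) (N + (d + 2))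
    let t := M2.freeModPullbackIso π (N + (d + 2))
    let v := j.inv ≫ (ShortComplex.g (ShortComplex.mk _ _ (CohMop.ihomNat_zero
        (ShortComplex.mk (kernel.ι f) f (kernel.condition f)) (Coh.structureModule Z))))
    haveI : Epi v := epi_comp _ _
    haveI : Epi ((Scheme.Modules.pullback π).map v) := inferInstance
    haveI : Epi ((Scheme.Modules.pullback π).map v ≫ r) := epi_comp _ _
    let w : FlatMod.freeMod P (N + (d + 2)) ⟶ O1 := t.inv ≫ (Scheme.Modules.pullback π).map v ≫ r
    haveI : Epi w := epi_comp _ _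
    exact ⟨_, (M2.freeModFrIso P _).inv ≫ w, epi_comp _ _⟩
  · have hr := congrArg (fun x => χP (h c * (1 - u) ^ i * x)) hrel0
    simp only [mul_zero, map_zero, Finset.mul_sum, map_sum] at hr
    refine (Finset.sum_congr rfl fun l _ => ?_).trans hr
    show χP (h (gamma (N + 1 - l) a * c) * (1 - u) ^ (i + l)) = _
    rw [map_mul h, hha, pow_add]
    exact congrArg χP (by ring)

end Groth.Agent.IntShRes5
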